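import Groth.Agent.Lib.Azumaya.Fibres
import Mathlib.RingTheory.LocalRing.Module
import Mathlib.RingTheory.LocalRing.ResidueField.Ideal
import Mathlib.RingTheory.Idempotents
import Mathlib.RingTheory.Flat.FaithfullyFlat.Algebra

/-!
# Azumaya algebras: central simple fibres, inner automorphisms
-/

set_option autoImplicit false

universe u v w

open TensorProduct MulOpposite

namespace Groth.Agent.Azumaya

theorem bij_of_centralSimple (k : Type u) [Field k] (A : Type v) [Ring A] [Algebra k A]
    [Algebra.IsCentral k A] [IsSimpleRing A] [FiniteDimensional k A] :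
    Function.Bijective (AlgHom.mulLeftRight k A) := by
  haveI := CSAlg.isSimpleRing_tensor' (k := k) A Aᵐᵒᵖ
  have hinj : Function.Injective (AlgHom.mulLeftRight k A) :=
    RingHom.injective (AlgHom.mulLeftRight k A).toRingHom
  refine ⟨hinj, ?_⟩
  refine (LinearMap.injective_iff_surjective_of_finrank_eq_finrank
    (f := (AlgHom.mulLeftRight k A).toLinearMap) ?_).1 hinj
  show _ = Module.finrank k (A →ₗ[k] A)
  rw [Module.finrank_tensorProduct, ← (MulOpposite.opLinearEquiv k : A ≃ₗ[k] Aᵐᵒᵖ).finrank_eq,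
    Module.finrank_linearMap]

variable {R : Type u} [CommRing R] {A : Type v} [Ring A] [Algebra R A]

theorem mulLeftRight_mem {I : TwoSidedIdeal A} {x : A} (hx : x ∈ I) (z : A ⊗[R] Aᵐᵒᵖ) :
    AlgHom.mulLeftRight R A z x ∈ I := by
  induction z using TensorProduct.induction_on with
  | zero => simpa using I.zero_mem
  | add a b ha hb => simpa [map_add] using I.add_mem ha hb
  | tmul a b =>
    rw [AlgHom.mulLeftRight_apply]
    exact I.mul_mem_right _ _ (I.mul_mem_left _ _ hx)

/-- A two-sided ideal with a unimodular element is everything. -/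
theorem eq_top_of_unimodular [IsAzumaya R A] {I : TwoSidedIdeal A} {x : A} (hx : x ∈ I)
    {φ : A →ₗ[R] R} (hφ : φ x = 1) : I = ⊤ := by
  obtain ⟨z, hz⟩ := (IsAzumaya.bij (R := R) (A := A)).2 (φ.smulRight 1)
  rw [← TwoSidedIdeal.one_mem_iff]
  simpa [hz, hφ] using mulLeftRight_mem (R := R) hx z

theorem exists_unit_coord_of_sum {ι : Type w} [Fintype ι] [IsLocalRing R] (a : ι → A) (c : ι → A)
    (hone : (1 : A) = ∑ j, a j * c j) [Nontrivial A] [Module.Free R A] [Module.Finite R A] :
    ∃ j, ∃ φ : A →ₗ[R] R, φ (a j) = 1 := by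
  by_contra! h
  let b := Module.Free.chooseBasis R A
  have hm : ∀ j i, b.coord i (a j) ∈ IsLocalRing.maximalIdeal R := fun j i => by
    by_contra hu
    simp only [IsLocalRing.mem_maximalIdeal, mem_nonunits_iff, not_not] at hu
    obtain ⟨v, hv⟩ := hu.exists_left_inv
    exact h j (v • b.coord i) (by simp [← hv])
  have hmem : ∀ y : A, y ∈ IsLocalRing.maximalIdeal R • (⊤ : Submodule R A) := by
    intro y
    rw [← mul_one y, hone, Finset.mul_sum]
    refine Submodule.sum_mem _ fun j _ => ?_
    rw [← b.sum_repr (a j), Finset.sum_mul, Finset.mul_sum]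
    refine Submodule.sum_mem _ fun i _ => ?_
    rw [smul_mul_assoc, mul_smul_comm]
    exact Submodule.smul_mem_smul (hm j i) trivial
  exact not_subsingleton A (subsingleton_of_forall_maximal (R := R) A fun m hm' y _ => by
    rw [IsLocalRing.eq_maximalIdeal hm']; exact hmem y)

theorem isSimpleRing_of_field (k : Type u) [Field k] (A : Type v) [Ring A] [Algebra k A]
    [IsAzumaya k A] : IsSimpleRing A := by
  have : Nontrivial A := by
    by_contra h
    rw [not_nontrivial_iff_subsingleton] at h
    exact one_ne_zero (eq_of_smul_eq_smul (α := A) fun a => Subsingleton.elim ((1 : k) • a) ((0 : k) • a))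
  refine IsSimpleRing.of_eq_bot_or_eq_top fun I => ?_
  rcases eq_or_ne I ⊥ with h | h
  · exact Or.inl h
  · obtain ⟨x, hx, hx0⟩ : ∃ x ∈ I, x ≠ 0 := by
      by_contra! hall
      exact h (le_bot_iff.1 fun x hx => by simp [hall x hx, TwoSidedIdeal.mem_bot])
    obtain ⟨φ, hφ'⟩ := LinearMap.exists_leftInverse_of_injective (LinearMap.toSpanSingleton k A x)
      (LinearMap.ker_eq_bot.2 (smul_left_injective k hx0))
    have hφ : φ x = 1 := by simpa using LinearMap.congr_fun hφ' 1
    exact Or.inr (eq_top_of_unimodular hx hφ)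

section Local

variable [IsLocalRing R]

/-- Automorphisms of Azumaya algebras over local rings are inner. -/
theorem exists_unit_conj [IsAzumaya R A] (u : A ≃ₐ[R] A) :
    ∃ a : Aˣ, ∀ x : A, u x = (a : A) * x * (a⁻¹ : Aˣ) := by
  have : Module.Free R A := Module.free_of_flat_of_isLocalRing
  cases subsingleton_or_nontrivial A
  · exact ⟨1, fun x => Subsingleton.elim _ _⟩
  let e := Module.Free.chooseBasis R A
  let eop := e.map (MulOpposite.opLinearEquiv R)
  obtain ⟨t, ht⟩ := (IsAzumaya.bij (R := R) (A := A)).2 u.toLinearMap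
  obtain ⟨a, ha⟩ : ∃ a : Module.Free.ChooseBasisIndex R A → A, t = ∑ j, a j ⊗ₜ eop j := by
    obtain ⟨f, rfl⟩ := (TensorProduct.equivFinsuppOfBasisRight eop).symm.surjective t
    exact ⟨f, by simp [Finsupp.sum_fintype]⟩
  have hu : ∀ x, u x = ∑ j, a j * x * (eop j).unop := fun x => by
    have := LinearMap.congr_fun ht x
    rw [ha, map_sum, LinearMap.sum_apply] at this
    simpa using this.symm
  have hcomm : ∀ x j, u x * a j = a j * x := by
    intro x
    have hinj := (IsAzumaya.bij (R := R) (A := A)).1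
    have key : ∑ j, (u x * a j) ⊗ₜ[R] eop j = ∑ j, (a j * x) ⊗ₜ[R] eop j := by
      apply hinj
      ext y
      simp only [map_sum, LinearMap.sum_apply, AlgHom.mulLeftRight_apply]
      trans u x * u y
      · rw [hu y, Finset.mul_sum]
        simp only [mul_assoc]
      · rw [← map_mul, hu (x * y)]
        simp only [mul_assoc]
    intro j
    have := congrArg (fun z => TensorProduct.equivFinsuppOfBasisRight eop z j) key
    simpa [map_sum, Finsupp.single_apply, eq_comm] using this
  obtain ⟨j, φ, hφ⟩ := exists_unit_coord_of_sum (R := R) a (fun j => (eop j).unop)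
    (by simpa using hu 1)
  let aj := a j
  let I : TwoSidedIdeal A := TwoSidedIdeal.mk' {y | ∃ x, y = aj * x} ⟨0, by simp⟩
    (by rintro _ _ ⟨x, rfl⟩ ⟨y, rfl⟩; exact ⟨x + y, (mul_add _ _ _).symm⟩)
    (by rintro _ ⟨x, rfl⟩; exact ⟨-x, by simp⟩)
    (by
      rintro x _ ⟨y, rfl⟩
      exact ⟨u.symm x * y, by rw [← mul_assoc, ← mul_assoc, ← hcomm, u.apply_symm_apply]⟩)
    (by rintro _ y ⟨x, rfl⟩; exact ⟨x * y, mul_assoc _ _ _⟩)
  have hI : I = ⊤ := eq_top_of_unimodular (x := aj)
    ((TwoSidedIdeal.mem_mk' _ _ _ _ _ _ _).2 ⟨1, (mul_one _).symm⟩) hφ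
  have h1 : (1 : A) ∈ I := hI ▸ trivial
  obtain ⟨b, hb⟩ := (TwoSidedIdeal.mem_mk' _ _ _ _ _ _ _).1 h1
  have hleft : u b * aj = 1 := (hcomm b j).trans hb.symm
  have hbb : b = u b := by
    calc b = u b * aj * b := by rw [hleft, one_mul]
      _ = u b := by rw [mul_assoc, ← hb, mul_one]
  refine ⟨⟨aj, b, hb.symm, by rw [hbb]; exact hleft⟩, fun x => ?_⟩
  change u x = aj * x * b
  rw [← hcomm x j, mul_assoc, ← hb, mul_one]

theorem exists_scalar_of_conj_eq [IsAzumaya R A] (a a' : Aˣ)
    (h : ∀ x : A, (a : A) * x * (a⁻¹ : Aˣ) = (a' : A) * x * (a'⁻¹ : Aˣ)) :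
    ∃ c : Rˣ, (a' : A) = algebraMap R A (c : R) * (a : A) := by
  have : Module.Free R A := Module.free_of_flat_of_isLocalRing
  cases subsingleton_or_nontrivial A
  · exact ⟨1, Subsingleton.elim _ _⟩
  let z : Aˣ := a⁻¹ * a'
  have hz : ∀ x : A, (z : A) * x = x * z := fun x => by
    have := congrArg (fun t => (↑a⁻¹ : A) * t * ↑a') (h x)
    simpa [z, mul_assoc] using this.symm
  have hz' : ∀ x : A, (↑z⁻¹ : A) * x = x * ↑z⁻¹ := fun x => by
    have := congrArg (fun t => (↑z⁻¹ : A) * t * ↑z⁻¹) (hz x)
    simpa [mul_assoc] using this.symm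
  obtain ⟨c, hc⟩ := Algebra.IsCentral.out (K := R) (D := A)
    (Subalgebra.mem_center_iff.2 fun x => (hz x).symm)
  obtain ⟨d, hd⟩ := Algebra.IsCentral.out (K := R) (D := A)
    (Subalgebra.mem_center_iff.2 fun x => (hz' x).symm)
  have hc' : algebraMap R A c = (z : A) := hc
  have hd' : algebraMap R A d = (↑z⁻¹ : A) := hd
  have hinj : Function.Injective (algebraMap R A) := FaithfulSMul.algebraMap_injective _ _
  have hcd : c * d = 1 := hinj (by rw [map_mul, hc', hd', Units.mul_inv, map_one])
  refine ⟨⟨c, d, hcd, by rw [mul_comm, hcd]⟩, ?_⟩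
  change (a' : A) = algebraMap R A c * a
  rw [Algebra.commutes, hc']
  simp [z]

end Local

theorem nontrivial_fibre [Module.Finite R A] [FaithfulSMul R A] (p : Ideal R) [p.IsPrime] :
    Nontrivial (p.ResidueField ⊗[R] A) := by
  have hp : (⟨p, ‹_›⟩ : PrimeSpectrum R) ∈ Module.support R A := by
    rw [Module.mem_support_iff_of_finite]
    intro x hx
    have : x = 0 := by
      refine eq_of_smul_eq_smul (α := A) fun y => ?_
      rw [zero_smul]
      exact Module.mem_annihilator.1 hx y
    exact this ▸ zero_mem _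
  exact (Module.mem_support_iff_nontrivial_residueField_tensorProduct ⟨p, ‹_›⟩).1 hp

theorem faithfulSMul_of_fibres [Module.Finite R A] [Module.Projective R A]
    (h : ∀ (p : Ideal R) [p.IsPrime], Nontrivial (p.ResidueField ⊗[R] A)) : FaithfulSMul R A := by
  obtain ⟨n, b, φ, hb⟩ := exists_dual_basis (R := R) (A := A)
  -- the trace ideal of `A` is the unit ideal
  have htop : (⨆ j, LinearMap.range (φ j)) = (⊤ : Ideal R) := by
    by_contra hne
    obtain ⟨m, hm, hle⟩ := Ideal.exists_le_maximal _ hne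
    have hz : ∀ y : m.ResidueField ⊗[R] A, y = 0 := fun y => by
      induction y using TensorProduct.induction_on with
      | zero => rfl
      | add a b ha hb => rw [ha, hb, add_zero]
      | tmul s x =>
        rw [hb x, TensorProduct.tmul_sum]
        refine Finset.sum_eq_zero fun j _ => ?_
        rw [TensorProduct.tmul_smul, TensorProduct.smul_tmul', Algebra.smul_def,
          (Ideal.algebraMap_residueField_eq_zero).2
            (hle (Submodule.mem_iSup_of_mem j ⟨x, rfl⟩)), zero_mul, TensorProduct.zero_tmul]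
    have := h m
    exact not_subsingleton _ ⟨fun y z => (hz y).trans (hz z).symm⟩
  refine ⟨fun {r s} hrs => ?_⟩
  rw [← sub_eq_zero]
  let J : Ideal R := LinearMap.ker (LinearMap.toSpanSingleton R R (r - s))
  have : (⨆ j, LinearMap.range (φ j)) ≤ J := iSup_le fun j => by
    rintro _ ⟨x, rfl⟩
    change φ j x * (r - s) = 0
    rw [mul_comm, ← smul_eq_mul, ← LinearMap.map_smul, sub_smul, hrs x, sub_self, map_zero]
  have h1 : (1 : R) ∈ J := this (htop ▸ Submodule.mem_top)
  simpa [J] using h1

theorem fibre_centralSimple [IsAzumaya R A] (p : Ideal R) [p.IsPrime] :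
    Algebra.IsCentral p.ResidueField (p.ResidueField ⊗[R] A) ∧
      IsSimpleRing (p.ResidueField ⊗[R] A) := by
  have := nontrivial_fibre (A := A) p
  have hsurj := surjective_baseChange (R := R) (A := A) p.ResidueField IsAzumaya.bij.2
  have : IsAzumaya p.ResidueField (p.ResidueField ⊗[R] A) :=
    { bij := ⟨(LinearMap.injective_iff_surjective_of_finrank_eq_finrank
        (f := (AlgHom.mulLeftRight p.ResidueField (p.ResidueField ⊗[R] A)).toLinearMap) (by
          show _ = Module.finrank p.ResidueField ((p.ResidueField ⊗[R] A) →ₗ[p.ResidueField] _)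
          rw [Module.finrank_tensorProduct, ← (MulOpposite.opLinearEquiv p.ResidueField :
            p.ResidueField ⊗[R] A ≃ₗ[p.ResidueField] (p.ResidueField ⊗[R] A)ᵐᵒᵖ).finrank_eq,
            Module.finrank_linearMap])).2 hsurj, hsurj⟩ }
  exact ⟨inferInstance, isSimpleRing_of_field p.ResidueField _⟩

theorem isAzumaya_iff_fibres [Module.Finite R A] [Module.Projective R A] :
    IsAzumaya R A ↔ ∀ (p : Ideal R) [p.IsPrime],
      Algebra.IsCentral p.ResidueField (p.ResidueField ⊗[R] A) ∧
        IsSimpleRing (p.ResidueField ⊗[R] A) := by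
  refine ⟨fun _ p _ => fibre_centralSimple p, fun h => ?_⟩
  have : FaithfulSMul R A := faithfulSMul_of_fibres fun p _ => have := (h p).2; inferInstance
  refine { bij := bijective_of_fibres fun m hm => ⟨m.ResidueField, inferInstance, inferInstance,
    ?_, Ideal.ker_algebraMap_residueField m, ?_⟩ }
  · exact m.algebraMap_residueField_surjective
  · have := (h m).1
    have := (h m).2
    exact bij_of_centralSimple _ _

end Groth.Agent.Azumaya
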