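import Mathlib.Algebra.Module.FinitePresentation
import Mathlib.RingTheory.Localization.BaseChange
import Mathlib.RingTheory.TensorProduct.Finite
import Mathlib.RingTheory.MatrixAlgebra
import Mathlib.Tactic.LinearCombination

/-!
# Spreading out isomorphisms of finitely presented algebras
-/

set_option autoImplicit false

universe u v w z

open TensorProduct

namespace Groth.Agent.Azumaya

/-- `T ⊗ Mₙ(R) ≅ Mₙ(T)` as `T`-algebras. -/
noncomputable def baseChangeMatrixEquiv (R : Type u) [CommRing R] (T : Type w) [CommRing T]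
    [Algebra R T] (n : ℕ) :
    T ⊗[R] Matrix (Fin n) (Fin n) R ≃ₐ[T] Matrix (Fin n) (Fin n) T :=
  AlgEquiv.ofRingEquiv (f := (matrixEquivTensor (Fin n) R T).symm.toRingEquiv) fun a => by
    rw [Algebra.TensorProduct.algebraMap_apply]
    change (matrixEquivTensor (Fin n) R T).symm (algebraMap T T a ⊗ₜ 1) = _
    rw [matrixEquivTensor_apply_symm]
    ext i j
    by_cases h : i = j <;> simp [Matrix.algebraMap_matrix_apply, h]

/-- `T' ⊗_T (T ⊗ A) ≅ T' ⊗ A` for a noncommutative `A`. -/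
noncomputable def cancelBC (R : Type u) [CommRing R] (T : Type w) [CommRing T] [Algebra R T]
    (T' : Type z) [CommRing T'] [Algebra R T'] [Algebra T T'] [IsScalarTower R T T']
    (A : Type v) [Ring A] [Algebra R A] : T' ⊗[T] (T ⊗[R] A) ≃ₐ[T'] T' ⊗[R] A :=
  AlgEquiv.symm <| AlgEquiv.ofLinearEquiv
    (TensorProduct.AlgebraTensorModule.cancelBaseChange R T T' T' A).symm
    (by simp [Algebra.TensorProduct.one_def]) <|
      LinearMap.map_mul_of_map_mul_tmul (fun _ _ _ _ ↦ by simp)

variable {T : Type u} [CommRing T] (M : Submonoid T) (E : Type w) [CommRing E] [Algebra T E]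
  [IsLocalization M E]

theorem exists_smul_eq_zero_of_mk_eq_zero {P : Type z} [AddCommGroup P] [Module T P]
    [Module.Finite T P] {C : Type v} [AddCommGroup C] [Module T C] (F G : P →ₗ[T] C)
    (h : ∀ x, (1 : E) ⊗ₜ[T] F x = (1 : E) ⊗ₜ[T] G x) : ∃ m ∈ M, ∀ x, m • F x = m • G x := by
  obtain ⟨s, hs⟩ := Module.Finite.exists_smul_of_comp_eq_of_isLocalizedModule M
    (TensorProduct.mk T E C 1) F G (LinearMap.ext h)
  exact ⟨s, s.2, fun x => LinearMap.congr_fun hs x⟩

/-- An isomorphism of finitely presented algebras over a localization spreads out. -/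
theorem exists_mem_forall_algEquiv {B : Type v} [Ring B] [Algebra T B] [Module.FinitePresentation T B]
    {C : Type v} [Ring C] [Algebra T C] [Module.FinitePresentation T C]
    (φ : E ⊗[T] B ≃ₐ[E] E ⊗[T] C) :
    ∃ m ∈ M, ∀ (T' : Type z) [CommRing T'] [Algebra T T'], IsUnit (algebraMap T T' m) →
      Nonempty (T' ⊗[T] B ≃ₐ[T'] T' ⊗[T] C) := by
  classical
  haveI : IsLocalizedModule M (TensorProduct.mk T E C 1) := inferInstance
  haveI : IsLocalizedModule M (TensorProduct.mk T E B 1) := inferInstance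
  obtain ⟨l, s, hl⟩ := Module.FinitePresentation.exists_lift_of_isLocalizedModule M
    (TensorProduct.mk T E C 1)
    ((φ.toLinearEquiv.toLinearMap.restrictScalars T).comp (TensorProduct.mk T E B 1))
  obtain ⟨l', s', hl'⟩ := Module.FinitePresentation.exists_lift_of_isLocalizedModule M
    (TensorProduct.mk T E B 1)
    ((φ.symm.toLinearEquiv.toLinearMap.restrictScalars T).comp (TensorProduct.mk T E C 1))
  have hlx : ∀ x, (1 : E) ⊗ₜ[T] l x = (s : T) • φ ((1 : E) ⊗ₜ x) := fun x =>
    LinearMap.congr_fun hl x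
  have hlx' : ∀ x, (1 : E) ⊗ₜ[T] l' x = (s' : T) • φ.symm ((1 : E) ⊗ₜ x) := fun x =>
    LinearMap.congr_fun hl' x
  have hsm : ∀ (c : T) (z : E ⊗[T] B), φ (c • z) = c • φ z := fun c z =>
    (φ.toLinearEquiv.toLinearMap.restrictScalars T).map_smul c z
  have hsm' : ∀ (c : T) (z : E ⊗[T] C), φ.symm (c • z) = c • φ.symm z := fun c z =>
    (φ.symm.toLinearEquiv.toLinearMap.restrictScalars T).map_smul c z
  obtain ⟨m₂, hm₂, h₂⟩ := exists_smul_eq_zero_of_mk_eq_zero M E
    ((LinearMap.mul' T C).comp (TensorProduct.map l l))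
    ((s : T) • l.comp (LinearMap.mul' T B)) fun z => by
      induction z using TensorProduct.induction_on with
      | zero => simp
      | add a b ha hb => simp only [map_add, TensorProduct.tmul_add, ha, hb]
      | tmul a b =>
        simp only [LinearMap.comp_apply, TensorProduct.map_tmul, LinearMap.mul'_apply,
          LinearMap.smul_apply, TensorProduct.tmul_smul, hlx]
        rw [show (1 : E) ⊗ₜ[T] (l a * l b) = ((1 : E) ⊗ₜ l a) * ((1 : E) ⊗ₜ l b) by simp,
          hlx, hlx, smul_mul_assoc, mul_smul_comm, ← map_mul]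
        simp
  obtain ⟨m₃, hm₃, h₃⟩ := exists_smul_eq_zero_of_mk_eq_zero M E
    (LinearMap.toSpanSingleton T C (l 1)) (LinearMap.toSpanSingleton T C ((s : T) • 1)) fun c => by
      simp only [LinearMap.toSpanSingleton_apply, TensorProduct.tmul_smul, hlx]
      rw [show ((1 : E) ⊗ₜ[T] (1 : B)) = 1 from rfl, show ((1 : E) ⊗ₜ[T] (1 : C)) = 1 from rfl,
        map_one]
  obtain ⟨m₄, hm₄, h₄⟩ := exists_smul_eq_zero_of_mk_eq_zero M E
    (l'.comp l) (((s : T) * s') • LinearMap.id) fun x => by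
      simp only [LinearMap.comp_apply, LinearMap.smul_apply, LinearMap.id_apply, hlx',
        TensorProduct.tmul_smul]
      rw [hlx, hsm', φ.symm_apply_apply, smul_smul, mul_comm]
  obtain ⟨m₅, hm₅, h₅⟩ := exists_smul_eq_zero_of_mk_eq_zero M E
    (l.comp l') (((s : T) * s') • LinearMap.id) fun x => by
      simp only [LinearMap.comp_apply, LinearMap.smul_apply, LinearMap.id_apply, hlx,
        TensorProduct.tmul_smul]
      rw [hlx', hsm, φ.apply_symm_apply, smul_smul]
  refine ⟨m₂ * m₃ * m₄ * m₅ * s * s', M.mul_mem (M.mul_mem (M.mul_mem (M.mul_mem (M.mul_mem hm₂ hm₃)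
    hm₄) hm₅) s.2) s'.2, fun T' _ _ hm => ?_⟩
  simp only [map_mul, IsUnit.mul_iff] at hm
  obtain ⟨⟨⟨⟨⟨hu₂, hu₃⟩, hu₄⟩, hu₅⟩, hus⟩, hus'⟩ := hm
  have cancel : ∀ {m : T} {N : Type v} [AddCommGroup N] [Module T N], IsUnit (algebraMap T T' m) →
      ∀ x y : N, m • x = m • y → (1 : T') ⊗ₜ[T] x = (1 : T') ⊗ₜ[T] y := by
    intro m N _ _ hu x y h
    refine hu.smul_left_cancel.1 ?_
    rw [algebraMap_smul, algebraMap_smul, ← TensorProduct.tmul_smul, h, TensorProduct.tmul_smul]
  obtain ⟨v, hv⟩ := hus.exists_left_inv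
  obtain ⟨v', hv'⟩ := hus'.exists_left_inv
  have key : ∀ (c : T) (a : T'), c • a = algebraMap T T' c * a := fun c a => Algebra.smul_def c a
  let L : T' ⊗[T] B →ₗ[T'] T' ⊗[T] C := v • l.baseChange T'
  let L' : T' ⊗[T] C →ₗ[T'] T' ⊗[T] B := v' • l'.baseChange T'
  have hLt : ∀ a b, L (a ⊗ₜ b) = (v * a) ⊗ₜ l b := fun a b => by
    simp [L, TensorProduct.smul_tmul']
  have hLt' : ∀ a b, L' (a ⊗ₜ b) = (v' * a) ⊗ₜ l' b := fun a b => by
    simp [L', TensorProduct.smul_tmul']
  have h4 : L'.comp L = LinearMap.id := by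
    refine TensorProduct.AlgebraTensorModule.ext fun a b => ?_
    rw [LinearMap.comp_apply, hLt, hLt', LinearMap.id_apply]
    have e := cancel hu₄ _ _ (h₄ b)
    simp only [LinearMap.comp_apply, LinearMap.smul_apply, LinearMap.id_apply] at e
    calc (v' * (v * a)) ⊗ₜ[T] l' (l b) = (v' * (v * a)) • ((1 : T') ⊗ₜ[T] l' (l b)) := by
          rw [TensorProduct.smul_tmul', smul_eq_mul, mul_one]
      _ = a ⊗ₜ b := by
          rw [e, TensorProduct.tmul_smul, TensorProduct.smul_tmul', TensorProduct.smul_tmul',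
            key, smul_eq_mul, map_mul, mul_one]
          congr 1
          linear_combination a * (v * algebraMap T T' ↑s) * hv' + a * hv
  have h5 : L.comp L' = LinearMap.id := by
    refine TensorProduct.AlgebraTensorModule.ext fun a b => ?_
    rw [LinearMap.comp_apply, hLt', hLt, LinearMap.id_apply]
    have e := cancel hu₅ _ _ (h₅ b)
    simp only [LinearMap.comp_apply, LinearMap.smul_apply, LinearMap.id_apply] at e
    calc (v * (v' * a)) ⊗ₜ[T] l (l' b) = (v * (v' * a)) • ((1 : T') ⊗ₜ[T] l (l' b)) := by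
          rw [TensorProduct.smul_tmul', smul_eq_mul, mul_one]
      _ = a ⊗ₜ b := by
          rw [e, TensorProduct.tmul_smul, TensorProduct.smul_tmul', TensorProduct.smul_tmul',
            key, smul_eq_mul, map_mul, mul_one]
          congr 1
          linear_combination a * (v * algebraMap T T' ↑s) * hv' + a * hv
  refine ⟨AlgEquiv.ofLinearEquiv (LinearEquiv.ofLinear L L' h5 h4) ?_
    (LinearMap.map_mul_of_map_mul_tmul (f := L) fun a₁ a₂ b₁ b₂ => ?_)⟩
  · change L ((1 : T') ⊗ₜ 1) = 1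
    have e := cancel hu₃ _ _ (h₃ 1)
    simp only [LinearMap.toSpanSingleton_apply, one_smul] at e
    rw [hLt, show (v * 1) ⊗ₜ[T] l 1 = v • ((1 : T') ⊗ₜ[T] l 1) by
      rw [TensorProduct.smul_tmul', smul_eq_mul], e, TensorProduct.tmul_smul,
      TensorProduct.smul_tmul', TensorProduct.smul_tmul', key, smul_eq_mul, mul_one, hv]
    rfl
  · have e := cancel hu₂ _ _ (h₂ (b₁ ⊗ₜ b₂))
    simp only [LinearMap.comp_apply, TensorProduct.map_tmul, LinearMap.mul'_apply,
      LinearMap.smul_apply] at e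
    rw [hLt, hLt, hLt, Algebra.TensorProduct.tmul_mul_tmul]
    calc (v * (a₁ * a₂)) ⊗ₜ[T] l (b₁ * b₂)
        = (v * a₁ * (v * a₂)) • ((1 : T') ⊗ₜ[T] ((s : T) • l (b₁ * b₂))) := by
          rw [TensorProduct.tmul_smul, TensorProduct.smul_tmul', TensorProduct.smul_tmul', key,
            smul_eq_mul, mul_one]
          congr 1
          linear_combination (-(a₁ * a₂ * v)) * hv
      _ = (v * a₁ * (v * a₂)) ⊗ₜ[T] (l b₁ * l b₂) := by
          rw [← e, TensorProduct.smul_tmul', smul_eq_mul, mul_one]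

end Groth.Agent.Azumaya
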