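import Groth.Agent.Lib.Azumaya.SplitEtale
import Groth.Agent.Lib.Azumaya.Spread
import Groth.Agent.Lib.Azumaya.Criteria
import Mathlib.RingTheory.Localization.Integral
import Mathlib.RingTheory.Localization.LocalizationLocalization
import Mathlib.RingTheory.Flat.FaithfullyFlat.Basic

/-!
# Étale local splitting of Azumaya algebras
-/

set_option autoImplicit false

universe u v

open Polynomial TensorProduct

namespace Groth.Agent.Azumaya

variable {R : Type u} [CommRing R] (A : Type u) [Ring A] [Algebra R A] [IsAzumaya R A]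

/-- The localization of an Azumaya algebra at a prime is Azumaya of square rank. -/
theorem localization_isAzumaya (p : Ideal R) [p.IsPrime] :
    IsAzumaya (Localization.AtPrime p) (Localization.AtPrime p ⊗[R] A) ∧
      ∃ r : ℕ, r ≠ 0 ∧
        Module.finrank (Localization.AtPrime p) (Localization.AtPrime p ⊗[R] A) = r ^ 2 := by
  let Rp := Localization.AtPrime p
  let k := IsLocalRing.ResidueField Rp
  obtain ⟨hc, hs⟩ := fibre_centralSimple (A := A) p
  let e : k ⊗[Rp] (Rp ⊗[R] A) ≃ₐ[k] p.ResidueField ⊗[R] A := cancelBC R Rp k A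
  haveI : Algebra.IsCentral k (k ⊗[Rp] (Rp ⊗[R] A)) :=
    CSAlg.isCentral_of_algEquiv (k := k) (A := p.ResidueField ⊗[R] A)
      (B := k ⊗[Rp] (Rp ⊗[R] A)) (h := hc) e.symm
  haveI : IsSimpleRing (k ⊗[Rp] (Rp ⊗[R] A)) := IsSimpleRing.of_ringEquiv e.symm.toRingEquiv hs
  haveI : Module.Finite Rp (Rp ⊗[R] A) := Module.Finite.base_change R Rp A
  haveI : Module.Free Rp (Rp ⊗[R] A) := Module.free_of_flat_of_isLocalRing
  haveI : Nontrivial (Rp ⊗[R] A) := by
    by_contra h
    haveI := not_nontrivial_iff_subsingleton.1 h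
    haveI : Subsingleton (k ⊗[Rp] (Rp ⊗[R] A)) := subsingleton_of_forall_eq 0 fun y => by
      induction y using TensorProduct.induction_on with
      | zero => rfl
      | tmul a b => rw [Subsingleton.elim b 0, TensorProduct.tmul_zero]
      | add a b ha hb => rw [ha, hb, add_zero]
    exact not_subsingleton (k ⊗[Rp] (Rp ⊗[R] A)) inferInstance
  refine ⟨(isAzumaya_iff_residue Rp (Rp ⊗[R] A)).2 ⟨inferInstance, inferInstance⟩, ?_⟩
  haveI : Module.Finite k (k ⊗[Rp] (Rp ⊗[R] A)) := Module.Finite.base_change Rp k _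
  obtain ⟨n, hn, ⟨f⟩⟩ := CSAlg.splits_separableClosure (k := k) (k ⊗[Rp] (Rp ⊗[R] A))
  refine ⟨n, hn, ?_⟩
  have := f.toLinearEquiv.finrank_eq
  rw [Module.finrank_baseChange, Module.finrank_baseChange, Module.finrank_matrix,
    Fintype.card_fin, Module.finrank_self, mul_one] at this
  rw [this, sq]

theorem exists_split_adjoinRoot (p : Ideal R) [p.IsPrime] :
    ∃ (r : ℕ) (f : (Localization.AtPrime p)[X]), r ≠ 0 ∧ f.Monic ∧ f.natDegree = r ∧ f.Separable ∧
      Nonempty (AdjoinRoot f ⊗[R] A ≃ₐ[AdjoinRoot f] Matrix (Fin r) (Fin r) (AdjoinRoot f)) := by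
  classical
  obtain ⟨hAz, r, hr, hrank⟩ := localization_isAzumaya A p
  let Rp := Localization.AtPrime p
  obtain ⟨f, hf, hdeg, hs, u, hu⟩ := exists_maximal_etale_subalgebra Rp (Rp ⊗[R] A) r hrank
  refine ⟨r, f, hr, hf, hdeg, hs, ?_⟩
  haveI := etale_adjoinRoot f hf hs
  haveI := hf.finite_adjoinRoot
  haveI := hf.free_adjoinRoot
  letI : Module (AdjoinRoot f) (Rp ⊗[R] A) :=
    { smul := fun e a => a * u e
      one_smul := fun a => by change a * u 1 = a; rw [map_one, mul_one]
      mul_smul := fun e e' a => by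
        change a * u (e * e') = a * u e' * u e
        rw [mul_comm e, map_mul, mul_assoc]
      smul_zero := fun e => by change (0 : Rp ⊗[R] A) * u e = 0; rw [zero_mul]
      smul_add := fun e a b => by change (a + b) * u e = a * u e + b * u e; rw [add_mul]
      add_smul := fun e e' a => by
        change a * u (e + e') = a * u e + a * u e'
        rw [map_add, mul_add]
      zero_smul := fun a => by change a * u 0 = 0; rw [map_zero, mul_zero] }
  obtain ⟨hfree, hrk, ⟨eΘ⟩⟩ := nonempty_split_and_free r hrank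
    ((AdjoinRoot.powerBasis' hf).finrank.trans hdeg) u hu (fun e a => rfl)
  haveI : IsScalarTower Rp (AdjoinRoot f) (Rp ⊗[R] A) := ⟨fun c e a => by
    change a * u (c • e) = c • (a * u e)
    rw [map_smul, mul_smul_comm]⟩
  haveI : Module.Finite (AdjoinRoot f) (Rp ⊗[R] A) :=
    Module.Finite.of_restrictScalars_finite Rp _ _
  haveI : Nontrivial (AdjoinRoot f) :=
    Module.nontrivial_of_finrank_pos (R := Rp) (by
      rw [(AdjoinRoot.powerBasis' hf).finrank, AdjoinRoot.powerBasis'_dim, hdeg]; omega)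
  let b := Module.finBasisOfFinrankEq (AdjoinRoot f) (Rp ⊗[R] A) hrk
  exact ⟨(cancelBC R Rp (AdjoinRoot f) A).symm.trans (eΘ.trans (algEquivMatrix b))⟩

theorem exists_finite_etale_split (p : Ideal R) [p.IsPrime] :
    ∃ f : R, f ∉ p ∧ ∃ (R' : Type u) (_ : CommRing R') (_ : Algebra R R')
      (_ : Algebra (Localization.Away f) R') (_ : IsScalarTower R (Localization.Away f) R'),
      Module.Finite (Localization.Away f) R' ∧ Algebra.Etale (Localization.Away f) R' ∧
      Module.FaithfullyFlat (Localization.Away f) R' ∧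
      ∃ r : ℕ, 1 ≤ r ∧ Nonempty ((R' ⊗[R] A) ≃ₐ[R'] Matrix (Fin r) (Fin r) R') := by
  classical
  obtain ⟨r, F, hr, hF, hdeg, hsep, ⟨φ⟩⟩ := exists_split_adjoinRoot A p
  let Rp := Localization.AtPrime p
  -- lift the polynomial
  obtain ⟨⟨b0, hb0⟩, hb⟩ := IsLocalization.integerNormalization_map_to_map p.primeCompl F
  let R1 := Localization.Away b0
  have hb0u : IsUnit (algebraMap R Rp b0) :=
    IsLocalization.map_units (M := p.primeCompl) Rp ⟨b0, hb0⟩
  letI : Algebra R1 Rp := (IsLocalization.Away.lift b0 (g := algebraMap R Rp) hb0u).toAlgebra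
  haveI : IsScalarTower R R1 Rp := IsScalarTower.of_algebraMap_eq fun x =>
    (IsLocalization.Away.lift_eq b0 hb0u x).symm
  have hle : Submonoid.powers b0 ≤ p.primeCompl := Submonoid.powers_le.2 hb0
  haveI : IsLocalization (p.primeCompl.map (algebraMap R R1)) Rp :=
    IsLocalization.isLocalization_of_submonoid_le R1 Rp (Submonoid.powers b0) p.primeCompl hle
  obtain ⟨g, hg, -, hgm⟩ : ∃ g : R1[X], g.map (algebraMap R1 Rp) = F ∧ g.degree = F.degree ∧ g.Monic := by
    refine lifts_and_degree_eq_and_monic ((lifts_iff_coeff_lifts F).2 fun n => ?_) hF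
    obtain ⟨w, hw⟩ := (IsLocalization.Away.algebraMap_isUnit (S := R1) b0).exists_left_inv
    refine ⟨w * algebraMap R R1 ((IsLocalization.integerNormalization p.primeCompl F).coeff n), ?_⟩
    have h1 := congrArg (fun q => q.coeff n) hb
    simp only [coeff_map, coeff_smul] at h1
    rw [map_mul, ← IsScalarTower.algebraMap_apply, h1, Algebra.smul_def, ← mul_assoc,
      IsScalarTower.algebraMap_apply R R1 Rp b0, ← map_mul, hw, map_one, one_mul]
  let T1 := AdjoinRoot g
  let E := AdjoinRoot F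
  let ι : T1 →+* E := AdjoinRoot.map (algebraMap R1 Rp) g F (dvd_of_eq hg.symm)
  letI : Algebra T1 E := ι.toAlgebra
  haveI : IsScalarTower R T1 E := IsScalarTower.of_algebraMap_eq fun x => by
    rw [IsScalarTower.algebraMap_apply R R1 T1, IsScalarTower.algebraMap_apply R Rp E,
      IsScalarTower.algebraMap_apply R R1 Rp]
    exact (AdjoinRoot.map_of (algebraMap R1 Rp) g F _ (algebraMap R R1 x)).symm
  let M := Algebra.algebraMapSubmonoid T1 p.primeCompl
  have hcoe : ∀ q : R1[X], algebraMap T1 E (AdjoinRoot.mk g q) =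
      AdjoinRoot.mk F (q.map (algebraMap R1 Rp)) := fun q => by
    refine RingHom.congr_fun (Polynomial.ringHom_ext
      (f := ι.comp (AdjoinRoot.mk g)) (g := (AdjoinRoot.mk F).comp (mapRingHom (algebraMap R1 Rp)))
      (fun a => ?_) ?_) q
    · change AdjoinRoot.map (algebraMap R1 Rp) g F (dvd_of_eq hg.symm) (AdjoinRoot.mk g (C a)) = AdjoinRoot.mk F ((C a).map _)
      rw [map_C, AdjoinRoot.mk_C, AdjoinRoot.mk_C]
      exact AdjoinRoot.map_of _ g F _ a
    · change AdjoinRoot.map (algebraMap R1 Rp) g F (dvd_of_eq hg.symm) (AdjoinRoot.mk g X) =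
        AdjoinRoot.mk F (X.map _)
      rw [AdjoinRoot.mk_X, AdjoinRoot.map_root, map_X, AdjoinRoot.mk_X]
  have hkill : ∀ x : T1, algebraMap T1 E x = 0 → ∃ c ∈ p.primeCompl, algebraMap R T1 c * x = 0 := by
    intro x hx
    obtain ⟨q, rfl⟩ := AdjoinRoot.mk_surjective x
    rw [← AdjoinRoot.mk_leftInverse hgm (AdjoinRoot.mk g q), AdjoinRoot.modByMonicHom_mk] at hx ⊢
    set q' := q %ₘ g with hq'
    have h0 : q'.map (algebraMap R1 Rp) = 0 := by
      rw [hcoe, AdjoinRoot.mk_eq_zero] at hx
      by_contra h0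
      refine hF.not_dvd_of_degree_lt h0 ?_ hx
      rw [hq', map_modByMonic _ hgm, hg]
      exact degree_modByMonic_lt _ hF
    have hc : ∀ n, ∃ c ∈ p.primeCompl, algebraMap R R1 c * q'.coeff n = 0 := fun n => by
      obtain ⟨⟨_, c, hc, rfl⟩, hce⟩ := (IsLocalization.map_eq_zero_iff
        (p.primeCompl.map (algebraMap R R1)) Rp (q'.coeff n)).1
        (by rw [← coeff_map, h0, coeff_zero])
      exact ⟨c, hc, hce⟩
    choose c hcM hc0 using hc
    refine ⟨∏ n ∈ q'.support, c n, prod_mem fun n _ => hcM n, ?_⟩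
    rw [IsScalarTower.algebraMap_apply R R1 T1, AdjoinRoot.algebraMap_eq, ← AdjoinRoot.mk_C,
      ← map_mul]
    convert map_zero (AdjoinRoot.mk g)
    ext n
    rw [coeff_C_mul, coeff_zero]
    by_cases hn : n ∈ q'.support
    · rw [← Finset.mul_prod_erase _ _ hn, map_mul, mul_right_comm, hc0, zero_mul]
    · rw [notMem_support_iff.1 hn, mul_zero]
  haveI : IsLocalization M E := by
    refine (isLocalization_iff M E).2 ⟨?_, ?_, ?_⟩
    · rintro ⟨_, c, hc, rfl⟩
      change IsUnit (algebraMap T1 E (algebraMap R T1 c))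
      rw [← IsScalarTower.algebraMap_apply R T1 E, IsScalarTower.algebraMap_apply R Rp E]
      exact (IsLocalization.map_units (M := p.primeCompl) Rp ⟨c, hc⟩).map _
    · intro z
      obtain ⟨q, rfl⟩ := AdjoinRoot.mk_surjective z
      obtain ⟨c, hc, hq⟩ := IsLocalization.integerNormalization_spec p.primeCompl q
      refine ⟨(AdjoinRoot.mk g ((IsLocalization.integerNormalization p.primeCompl q).map
        (algebraMap R R1)), ⟨algebraMap R T1 c, c, hc, rfl⟩), ?_⟩
      change _ * algebraMap T1 E (algebraMap R T1 c) = algebraMap T1 E _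
      rw [hcoe, Polynomial.map_map, ← IsScalarTower.algebraMap_eq, hq,
        ← IsScalarTower.algebraMap_apply R T1 E, IsScalarTower.algebraMap_apply R Rp E,
        AdjoinRoot.algebraMap_eq, ← AdjoinRoot.mk_C, ← map_mul, ← algebraMap_smul Rp c q,
        Polynomial.smul_eq_C_mul, mul_comm]
    · intro x y hxy
      obtain ⟨c, hc, h0⟩ := hkill (x - y) (by rw [map_sub, hxy, sub_self])
      exact ⟨⟨algebraMap R T1 c, c, hc, rfl⟩, sub_eq_zero.1 (by rw [← mul_sub]; exact h0)⟩
  -- the derivative becomes invertible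
  obtain ⟨c0, hc0, w0, hw0⟩ : ∃ c ∈ p.primeCompl, ∃ w : T1,
      AdjoinRoot.mk g (derivative g) * w = algebraMap R T1 c := by
    obtain ⟨a, b, hab⟩ := hsep
    have hu : algebraMap T1 E (AdjoinRoot.mk g (derivative g)) * AdjoinRoot.mk F b = 1 := by
      rw [hcoe, ← derivative_map, hg, ← map_mul, ← map_one (AdjoinRoot.mk F), ← hab, map_add,
        map_mul _ a, AdjoinRoot.mk_self, mul_zero, zero_add, mul_comm]
    obtain ⟨⟨y, ⟨_, c1, hc1, rfl⟩⟩, hy⟩ := IsLocalization.surj M (AdjoinRoot.mk F b)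
    dsimp only at hy
    have h1 : algebraMap T1 E (AdjoinRoot.mk g (derivative g) * y - algebraMap R T1 c1) = 0 := by
      rw [map_sub, map_mul, ← hy, ← mul_assoc, hu, one_mul, sub_self]
    obtain ⟨c2, hc2, h2⟩ := hkill _ h1
    refine ⟨c1 * c2, mul_mem hc1 hc2, algebraMap R T1 c2 * y, ?_⟩
    rw [map_mul]
    linear_combination h2
  -- spread out the splitting
  haveI : Module.Finite T1 (T1 ⊗[R] A) := Module.Finite.base_change R T1 A
  haveI : Module.FinitePresentation T1 (T1 ⊗[R] A) := Module.finitePresentation_of_projective T1 _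
  haveI : Module.FinitePresentation T1 (Matrix (Fin r) (Fin r) T1) :=
    Module.finitePresentation_of_projective T1 _
  obtain ⟨_, ⟨u0, hu0, rfl⟩, hiso⟩ := exists_mem_forall_algEquiv.{u, u, u, u} M E
    ((cancelBC R T1 E A).trans (φ.trans (baseChangeMatrixEquiv T1 E r).symm))
  let f0 := b0 * c0 * u0
  have hf0 : f0 ∉ p := p.primeCompl.mul_mem (p.primeCompl.mul_mem hb0 hc0) hu0
  let S := Localization.Away f0
  have hS : ∀ x, x ∣ f0 → IsUnit (algebraMap R S x) := fun x hx =>
    isUnit_of_dvd_unit (map_dvd _ hx) (IsLocalization.Away.algebraMap_isUnit f0)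
  letI : Algebra R1 S := (IsLocalization.Away.lift b0 (g := algebraMap R S)
    (hS b0 (dvd_mul_of_dvd_left (dvd_mul_right _ _) _))).toAlgebra
  haveI : IsScalarTower R R1 S := IsScalarTower.of_algebraMap_eq fun x =>
    (IsLocalization.Away.lift_eq b0 _ x).symm
  let gS := g.map (algebraMap R1 S)
  have hgS : gS.Monic := hgm.map _
  let R' := AdjoinRoot gS
  let ι' : T1 →+* R' := AdjoinRoot.map (algebraMap R1 S) g gS dvd_rfl
  letI : Algebra T1 R' := ι'.toAlgebra
  haveI : IsScalarTower R T1 R' := IsScalarTower.of_algebraMap_eq fun x => by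
    rw [IsScalarTower.algebraMap_apply R R1 T1, IsScalarTower.algebraMap_apply R S R',
      IsScalarTower.algebraMap_apply R R1 S]
    exact (AdjoinRoot.map_of (algebraMap R1 S) g gS _ (algebraMap R R1 x)).symm
  have hunit : ∀ x, x ∣ f0 → IsUnit (algebraMap T1 R' (algebraMap R T1 x)) := fun x hx => by
    rw [← IsScalarTower.algebraMap_apply R T1 R', IsScalarTower.algebraMap_apply R S R']
    exact (hS x hx).map _
  have hcoe' : ∀ q : R1[X], algebraMap T1 R' (AdjoinRoot.mk g q) =
      AdjoinRoot.mk gS (q.map (algebraMap R1 S)) := fun q => by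
    refine RingHom.congr_fun (Polynomial.ringHom_ext
      (f := ι'.comp (AdjoinRoot.mk g)) (g := (AdjoinRoot.mk gS).comp (mapRingHom (algebraMap R1 S)))
      (fun a => ?_) ?_) q
    · change AdjoinRoot.map (algebraMap R1 S) g gS dvd_rfl (AdjoinRoot.mk g (C a)) =
        AdjoinRoot.mk gS ((C a).map _)
      rw [map_C, AdjoinRoot.mk_C, AdjoinRoot.mk_C]
      exact AdjoinRoot.map_of _ g gS _ a
    · change AdjoinRoot.map (algebraMap R1 S) g gS dvd_rfl (AdjoinRoot.mk g X) =
        AdjoinRoot.mk gS (X.map _)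
      rw [AdjoinRoot.mk_X, AdjoinRoot.map_root, map_X, AdjoinRoot.mk_X]
  have hsepS : gS.Separable := by
    have hd : IsUnit (AdjoinRoot.mk gS (derivative gS)) := by
      rw [derivative_map, ← hcoe']
      refine isUnit_of_dvd_unit ⟨algebraMap T1 R' w0, ?_⟩
        (hunit c0 (dvd_mul_of_dvd_left (dvd_mul_left _ _) _))
      rw [← map_mul, hw0]
    obtain ⟨c, hc⟩ := hd.exists_left_inv
    obtain ⟨q, rfl⟩ := AdjoinRoot.mk_surjective c
    rw [← map_mul, ← map_one (AdjoinRoot.mk gS), AdjoinRoot.mk_eq_mk] at hc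
    obtain ⟨a, ha⟩ := hc
    exact ⟨-a, q, by linear_combination ha⟩
  obtain ⟨ψ⟩ := hiso R' (hunit u0 (dvd_mul_left _ _))
  haveI : Nontrivial S := not_subsingleton_iff_nontrivial.1 fun h => by
    obtain ⟨n, hn⟩ := (IsLocalization.subsingleton_iff (S := S) (M := Submonoid.powers f0)).1 h
    exact (p.primeCompl.pow_mem hf0 n) ((show f0 ^ n = 0 from hn).symm ▸ p.zero_mem)
  haveI := hgS.free_adjoinRoot
  haveI := hgS.finite_adjoinRoot
  haveI : Nontrivial R' := Module.nontrivial_of_finrank_pos (R := S) (by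
    rw [(AdjoinRoot.powerBasis' hgS).finrank, AdjoinRoot.powerBasis'_dim, hgm.natDegree_map,
      ← hgm.natDegree_map (algebraMap R1 Rp), hg, hdeg]
    omega)
  refine ⟨f0, hf0, R', inferInstance, inferInstance, inferInstance, inferInstance, inferInstance,
    etale_adjoinRoot gS hgS hsepS, inferInstance, r, by omega, ⟨?_⟩⟩
  exact (cancelBC R T1 R' A).symm.trans (ψ.trans (baseChangeMatrixEquiv T1 R' r))

end Groth.Agent.Azumaya
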