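import Groth.Agent.Lib.Azumaya.Exists
import Mathlib.RingTheory.Etale.StandardEtale
import Mathlib.RingTheory.AdjoinRoot

/-!
# Maximal étale subalgebras of Azumaya algebras over local rings
-/

set_option autoImplicit false

universe u v w

open Polynomial TensorProduct

namespace Groth.Agent.Azumaya

section Etale

variable {R : Type u} [CommRing R]

/-- `AdjoinRoot` of a separable monic polynomial is étale. -/
theorem etale_adjoinRoot (f : R[X]) (hf : f.Monic) (hs : f.Separable) :
    Algebra.Etale R (AdjoinRoot f) := by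
  obtain ⟨a, b, hab⟩ := hs
  let P : StandardEtalePair R :=
    { f := f
      monic_f := hf
      g := 1
      cond := ⟨b, a, 0, by rw [pow_zero, ← hab]; ring⟩ }
  have hroot : P.HasMap (AdjoinRoot.root f) :=
    ⟨by simp [P, AdjoinRoot.aeval_eq], by simp [P]⟩
  let φ : P.Ring →ₐ[R] AdjoinRoot f := P.lift (AdjoinRoot.root f) hroot
  let ψ : AdjoinRoot f →ₐ[R] P.Ring :=
    AdjoinRoot.liftAlgHom f (Algebra.ofId R P.Ring) P.X StandardEtalePair.hasMap_X.1
  let e : P.Ring ≃ₐ[R] AdjoinRoot f := AlgEquiv.ofAlgHom φ ψ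
    (AdjoinRoot.algHom_ext (by simp [φ, ψ])) (StandardEtalePair.hom_ext (by simp [φ, ψ]))
  exact Algebra.Etale.of_equiv e

/-- A monic polynomial over a local ring is separable if its reduction is. -/
theorem separable_of_map_residue [IsLocalRing R] (f : R[X]) (hf : f.Monic)
    (hs : (f.map (IsLocalRing.residue R)).Separable) : f.Separable := by
  have : Module.Finite R (AdjoinRoot f) := hf.finite_adjoinRoot
  have : Algebra.IsIntegral R (AdjoinRoot f) := Algebra.IsIntegral.of_finite R _
  set δ : AdjoinRoot f := AdjoinRoot.mk f (derivative f) with hδ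
  have hu : IsUnit δ := by
    by_contra hnu
    obtain ⟨M, hM, hδM⟩ := exists_max_ideal_of_mem_nonunits (a := δ) hnu
    have hcomap : (M.comap (algebraMap R (AdjoinRoot f))).IsMaximal :=
      Ideal.isMaximal_comap_of_isIntegral_of_isMaximal (R := R) M
    have hker : ∀ a ∈ IsLocalRing.maximalIdeal R,
        ((Ideal.Quotient.mk M).comp (algebraMap R (AdjoinRoot f))) a = 0 := fun a ha => by
      rw [← IsLocalRing.eq_maximalIdeal hcomap] at ha
      exact Ideal.Quotient.eq_zero_iff_mem.2 ha
    let φ : IsLocalRing.ResidueField R →+* AdjoinRoot f ⧸ M :=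
      Ideal.Quotient.lift _ ((Ideal.Quotient.mk M).comp (algebraMap R (AdjoinRoot f))) hker
    let z := Ideal.Quotient.mk M (AdjoinRoot.root f)
    have key : ∀ q : R[X], (q.map (IsLocalRing.residue R)).eval₂ φ z =
        Ideal.Quotient.mk M (AdjoinRoot.mk f q) := fun q => by
      rw [eval₂_map]
      change eval₂ ((Ideal.Quotient.mk M).comp (algebraMap R (AdjoinRoot f))) z q = _
      rw [← hom_eval₂, ← AdjoinRoot.aeval_eq, aeval_def]
    obtain ⟨a, b, hab⟩ := hs
    have := congrArg (eval₂ φ z) hab
    rw [derivative_map, eval₂_add, eval₂_mul, eval₂_mul, eval₂_one, key, key, AdjoinRoot.mk_self,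
      map_zero, mul_zero, zero_add, Ideal.Quotient.eq_zero_iff_mem.2 hδM, mul_zero] at this
    have _inst : Nontrivial (AdjoinRoot f ⧸ M) := Ideal.Quotient.nontrivial_iff.2 hM.ne_top
    exact zero_ne_one this
  obtain ⟨c, hc⟩ := hu.exists_left_inv
  obtain ⟨q, rfl⟩ := AdjoinRoot.mk_surjective c
  rw [hδ, ← map_mul, ← map_one (AdjoinRoot.mk f), AdjoinRoot.mk_eq_mk] at hc
  obtain ⟨a, ha⟩ := hc
  exact ⟨-a, q, by linear_combination ha⟩

end Etale

/-- Over a local ring an Azumaya algebra has a monogenic maximal étale subalgebra. -/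
theorem exists_maximal_etale_subalgebra (R : Type u) [CommRing R] [IsLocalRing R] (A : Type u)
    [Ring A] [Algebra R A] [IsAzumaya R A] (r : ℕ) (hA : Module.finrank R A = r ^ 2) :
    ∃ (f : R[X]), f.Monic ∧ f.natDegree = r ∧ f.Separable ∧ ∃ u : AdjoinRoot f →ₐ[R] A,
      Function.Injective (u.toLinearMap.lTensor (IsLocalRing.ResidueField R)) := by
  classical
  let k := IsLocalRing.ResidueField R
  have : Module.Free R A := Module.free_of_flat_of_isLocalRing
  obtain ⟨ξ, hsep, hrk⟩ : ∃ ξ : A,
      Algebra.IsSeparable k (Algebra.adjoin k ({(1 : k) ⊗ₜ[R] ξ} : Set (k ⊗[R] A))) ∧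
      Module.finrank k (Algebra.adjoin k ({(1 : k) ⊗ₜ[R] ξ} : Set (k ⊗[R] A))) = r := by
    rcases subsingleton_or_nontrivial A with h | h
    · have hr : r = 0 := by simpa [Module.finrank_zero_of_subsingleton] using hA.symm
      have : Subsingleton (k ⊗[R] A) := subsingleton_of_forall_eq 0 fun y => by
        induction y using TensorProduct.induction_on with
        | zero => rfl
        | tmul a b => rw [Subsingleton.elim b 0, TensorProduct.tmul_zero]
        | add a b ha hb => rw [ha, hb, add_zero]
      refine ⟨0, ⟨fun y => ?_⟩, by rw [hr]; exact Module.finrank_zero_of_subsingleton⟩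
      unfold IsSeparable
      rw [minpoly.subsingleton k y]
      exact separable_one
    · obtain ⟨hcen, hsimp⟩ := (isAzumaya_iff_residue R A).1 ‹_›
      obtain ⟨x, h1, h2⟩ := exists_regular_separable k (k ⊗[R] A) r
        (by rw [Module.finrank_baseChange, hA])
      obtain ⟨ξ, rfl⟩ := TensorProduct.mk_surjective R A k IsLocalRing.residue_surjective x
      exact ⟨ξ, h1, h2⟩
  haveI := hsep
  obtain ⟨-, hmem⟩ := regular_section r hA ξ hrk
  obtain ⟨c, hc⟩ := (Submodule.mem_span_range_iff_exists_fun R).1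
    (hmem (ξ ^ r) (Commute.pow_self ξ r).eq)
  have hlt : (∑ i : Fin r, C (c i) * X ^ (i : ℕ)).degree < (r : WithBot ℕ) := degree_sum_fin_lt c
  set f : R[X] := X ^ r - ∑ i : Fin r, C (c i) * X ^ (i : ℕ) with hf
  have hmon : f.Monic := monic_X_pow_sub hlt
  have hdeg : f.natDegree = r := by
    apply natDegree_eq_of_degree_eq_some
    rw [hf, degree_sub_eq_left_of_degree_lt (by rwa [degree_X_pow]), degree_X_pow]
  have haev : aeval ξ f = 0 := by
    simp [hf, ← Algebra.smul_def, hc]
  let x : k ⊗[R] A := (1 : k) ⊗ₜ ξ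
  have hxi : IsIntegral k x := Algebra.IsIntegral.isIntegral x
  have hdegx : (minpoly k x).natDegree = r := (finrank_adjoin k x hxi).symm.trans hrk
  have haevx : aeval x (f.map (algebraMap R k)) = 0 := by
    rw [aeval_map_algebraMap]
    exact (aeval_algHom_apply (Algebra.TensorProduct.includeRight : A →ₐ[R] k ⊗[R] A) ξ f).trans
      (by rw [haev, map_zero])
  have hmap : f.map (algebraMap R k) = minpoly k x :=
    eq_of_monic_of_dvd_of_natDegree_le (minpoly.monic hxi) (hmon.map _) (minpoly.dvd k x haevx)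
      (by rw [hmon.natDegree_map, hdeg, hdegx])
  have hs : f.Separable := separable_of_map_residue f hmon
    (by rw [← IsLocalRing.ResidueField.algebraMap_eq, hmap]; exact separable_minpoly_of_adjoin k x)
  let u : AdjoinRoot f →ₐ[R] A := Ideal.Quotient.liftₐ _ (aeval ξ) fun a ha => by
    obtain ⟨b, rfl⟩ := Ideal.mem_span_singleton.1 ha
    rw [map_mul, haev, zero_mul]
  have hu : u (AdjoinRoot.root f) = ξ := aeval_X ξ
  refine ⟨f, hmon, hdeg, hs, u, ?_⟩
  let B := (AdjoinRoot.powerBasis' hmon).basis
  have hb : ∀ i, u.toLinearMap.baseChange k (B.baseChange k i) = x ^ (i : ℕ) := fun i => by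
    rw [Module.Basis.baseChange_apply, LinearMap.baseChange_tmul, AlgHom.toLinearMap_apply,
      PowerBasis.coe_basis, map_pow, AdjoinRoot.powerBasis'_gen, hu]
    exact map_pow (Algebra.TensorProduct.includeRight : A →ₐ[R] k ⊗[R] A) ξ i
  have h0 : LinearIndependent k fun i : Fin (AdjoinRoot.powerBasis' hmon).dim => x ^ (i : ℕ) :=
    (linearIndependent_pow (K := k) x).comp
      (Fin.cast (by rw [AdjoinRoot.powerBasis'_dim, hdeg, hdegx])) (Fin.cast_injective _)
  change Function.Injective (u.toLinearMap.baseChange k)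
  refine LinearMap.ker_eq_bot.1 ((Submodule.eq_bot_iff _).2 fun z hz => ?_)
  rw [LinearMap.mem_ker, ← (B.baseChange k).sum_repr z, map_sum] at hz
  simp only [map_smul, hb] at hz
  apply (B.baseChange k).repr.injective
  ext i
  rw [map_zero, Finsupp.zero_apply]
  exact Fintype.linearIndependent_iff.1 h0 _ hz i

end Groth.Agent.Azumaya
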