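import Groth.Agent.Lib.Azumaya.Criteria
import Mathlib.RingTheory.LocalRing.ResidueField.Basic
import Mathlib.RingTheory.Flat.FaithfullyFlat.Basic
import Mathlib.RingTheory.Flat.TorsionFree

/-!
# Azumaya algebras over local rings; faithfully flat descent
-/

set_option autoImplicit false

universe u v w

open TensorProduct MulOpposite

namespace Groth.Agent.Azumaya

variable (R : Type u) [CommRing R] (A : Type v) [Ring A] [Algebra R A]

/-- `L ⊗[S] (S ⊗[R] A) ≃ L ⊗[R] A`, for noncommutative `A`. -/
noncomputable def cancel (S L : Type w) [CommRing S] [CommRing L] [Algebra R S] [Algebra S L]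
    [Algebra R L] [IsScalarTower R S L] : L ⊗[S] (S ⊗[R] A) ≃ₐ[L] L ⊗[R] A :=
  AlgEquiv.symm <| AlgEquiv.ofLinearEquiv
    (TensorProduct.AlgebraTensorModule.cancelBaseChange R S L L A).symm
    (by simp [Algebra.TensorProduct.one_def]) <|
      LinearMap.map_mul_of_map_mul_tmul (fun _ _ _ _ ↦ by simp)

theorem isAzumaya_of_field_surjective (k : Type w) [Field k] [Algebra R k] [Module.Finite R A]
    [Nontrivial (k ⊗[R] A)] (h : Function.Surjective (AlgHom.mulLeftRight k (k ⊗[R] A))) :
    IsAzumaya k (k ⊗[R] A) :=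
  { bij := ⟨(LinearMap.injective_iff_surjective_of_finrank_eq_finrank
      (f := (AlgHom.mulLeftRight k (k ⊗[R] A)).toLinearMap) (by
        show _ = Module.finrank k ((k ⊗[R] A) →ₗ[k] _)
        rw [Module.finrank_tensorProduct, ← (MulOpposite.opLinearEquiv k :
          k ⊗[R] A ≃ₗ[k] (k ⊗[R] A)ᵐᵒᵖ).finrank_eq, Module.finrank_linearMap])).2 h, h⟩ }

theorem isAzumaya_iff_residue [IsLocalRing R] [Module.Finite R A] [Module.Free R A] [Nontrivial A] :
    IsAzumaya R A ↔ (Algebra.IsCentral (IsLocalRing.ResidueField R) (IsLocalRing.ResidueField R ⊗[R] A) ∧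
      IsSimpleRing (IsLocalRing.ResidueField R ⊗[R] A)) := by
  let b := Module.Free.chooseBasis R A
  have hne : Nonempty (Module.Free.ChooseBasisIndex R A) := b.index_nonempty
  have : FaithfulSMul R A := ⟨fun {r s} h => by
    have := congrArg (fun y => b.repr y hne.some) (h (b hne.some))
    simpa using this⟩
  have : Nontrivial (IsLocalRing.ResidueField R ⊗[R] A) :=
    ((Algebra.TensorProduct.basis (IsLocalRing.ResidueField R) b).repr.toEquiv.nontrivial)
  constructor
  · intro _
    have := isAzumaya_of_field_surjective R A (IsLocalRing.ResidueField R)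
      (surjective_baseChange (R := R) (A := A) _ IsAzumaya.bij.2)
    exact ⟨inferInstance, isSimpleRing_of_field (IsLocalRing.ResidueField R) _⟩
  · rintro ⟨_, _⟩
    refine { bij := bijective_of_fibres fun m hm => ⟨IsLocalRing.ResidueField R, inferInstance,
      inferInstance, IsLocalRing.residue_surjective, ?_, bij_of_centralSimple _ _⟩ }
    rw [IsLocalRing.eq_maximalIdeal hm]
    exact IsLocalRing.ker_residue

end Groth.Agent.Azumaya
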