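import Groth.Agent.Lib.CSAlg.Split
import Groth.Agent.Lib.Azumaya.Local
import Mathlib.RingTheory.PowerBasis
import Mathlib.RingTheory.LocalRing.Module
import Mathlib.LinearAlgebra.Eigenspace.Minpoly
import Mathlib.FieldTheory.SeparableClosure
import Mathlib.FieldTheory.Separable

/-!
# Regular separable elements of central simple and Azumaya algebras
-/

set_option autoImplicit false

universe u v w

open TensorProduct Polynomial

namespace Groth.Agent.Azumaya

section Span

variable (k : Type u) [Field k] {A : Type v} [Ring A] [Algebra k A]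

theorem adjoin_eq_span (x : A) (hx : IsIntegral k x) :
    (Algebra.adjoin k ({x} : Set A)).toSubmodule =
      Submodule.span k (Set.range fun i : Fin (minpoly k x).natDegree => x ^ (i : ℕ)) := by
  refine le_antisymm (fun y hy => ?_) (Submodule.span_le.2 ?_)
  · rw [Subalgebra.mem_toSubmodule, Algebra.adjoin_singleton_eq_range_aeval] at hy
    obtain ⟨f, rfl⟩ := hy
    rcases subsingleton_or_nontrivial k with h | h
    · exact absurd h (not_subsingleton k)
    · exact hx.mem_span_pow ⟨f, rfl⟩
  · rintro _ ⟨i, rfl⟩
    exact pow_mem (Algebra.subset_adjoin (Set.mem_singleton x)) _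

theorem finrank_adjoin (x : A) (hx : IsIntegral k x) :
    Module.finrank k (Algebra.adjoin k ({x} : Set A)) = (minpoly k x).natDegree := by
  rw [← Subalgebra.finrank_toSubmodule, adjoin_eq_span k x hx,
    finrank_span_eq_card (linearIndependent_pow x), Fintype.card_fin]

theorem separable_minpoly_of_adjoin (x : A)
    [h : Algebra.IsSeparable k (Algebra.adjoin k ({x} : Set A))] : (minpoly k x).Separable := by
  have : IsSeparable k (⟨x, Algebra.subset_adjoin rfl⟩ : Algebra.adjoin k ({x} : Set A)) :=
    h.isSeparable' _
  unfold IsSeparable at this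
  rwa [← minpoly.algHom_eq (Algebra.adjoin k ({x} : Set A)).val Subtype.val_injective] at this

end Span

/-- The commutant of an endomorphism with as many eigenvalues as the dimension. -/
theorem commute_mem_span {K : Type u} [Field K] {V : Type v} [AddCommGroup V] [Module K V]
    [FiniteDimensional K V] {r : ℕ} (hV : Module.finrank K V = r) (f : Module.End K V)
    (hf : LinearIndependent K fun i : Fin r => f ^ (i : ℕ)) (μ : Fin r → K) (hμ : Function.Injective μ)
    (heig : ∀ i, f.HasEigenvalue (μ i)) (g : Module.End K V) (hg : g * f = f * g) :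
    g ∈ Submodule.span K (Set.range fun i : Fin r => f ^ (i : ℕ)) := by
  classical
  choose v hv using fun i => (heig i).exists_hasEigenvector
  let b : Module.Basis (Fin r) K V := basisOfLinearIndependentOfCardEqFinrank' v
    (f.eigenvectors_linearIndependent' μ hμ v hv) (by rw [Fintype.card_fin, hV])
  have hb : ∀ i, f (b i) = μ i • b i := fun i => by
    simp only [b, coe_basisOfLinearIndependentOfCardEqFinrank']
    exact (hv i).apply_eq_smul
  let Com : Submodule K (Module.End K V) :=
    { carrier := {g | g * f = f * g}
      add_mem' := fun {a b} ha hb' => by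
        simp only [Set.mem_ofPred_eq] at *
        rw [add_mul, mul_add, ha, hb']
      zero_mem' := by simp
      smul_mem' := fun c a ha => by
        simp only [Set.mem_ofPred_eq] at *
        rw [smul_mul_assoc, mul_smul_comm, ha] }
  have hdiag : ∀ g ∈ Com, ∀ i, g (b i) = b.repr (g (b i)) i • b i := by
    intro g hg i
    apply b.repr.injective
    ext j
    rw [map_smul, b.repr_self, Finsupp.smul_apply, Finsupp.single_apply]
    by_cases hij : i = j
    · subst hij; simp
    · rw [if_neg hij, smul_zero]
      have h1 : f (g (b i)) = μ i • g (b i) := by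
        have := LinearMap.congr_fun hg (b i)
        simp only [Module.End.mul_apply, hb, map_smul] at this
        exact this.symm
      have h2 : f (g (b i)) = ∑ l, (b.repr (g (b i)) l * μ l) • b l := by
        conv_lhs => rw [← b.sum_repr (g (b i)), map_sum]
        simp [hb, smul_smul]
      have h3 := congrArg (fun z => b.repr z j) (h2.symm.trans h1)
      simp only [map_sum, map_smul, b.repr_self, Finsupp.coe_finsetSum, Finset.sum_apply,
        Finsupp.smul_apply, Finsupp.single_apply, smul_eq_mul, mul_ite, mul_one, mul_zero,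
        Finset.sum_ite_eq', Finset.mem_univ, if_true] at h3
      by_contra h0
      exact hij (hμ (mul_left_cancel₀ h0 (h3.trans (mul_comm _ _))).symm)
  let Θ : Com →ₗ[K] Fin r → K :=
    { toFun := fun g i => b.repr (g.1 (b i)) i
      map_add' := fun g h => by ext i; simp
      map_smul' := fun c g => by ext i; simp }
  have hΘ : Function.Injective Θ := fun g h e => Subtype.ext (b.ext fun i => by
    rw [hdiag g.1 g.2 i, hdiag h.1 h.2 i, show b.repr (g.1 (b i)) i = b.repr (h.1 (b i)) i from congrFun e i])
  have hle : Submodule.span K (Set.range fun i : Fin r => f ^ (i : ℕ)) ≤ Com := by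
    rw [Submodule.span_le]
    rintro _ ⟨i, rfl⟩
    exact (Commute.pow_self f _).eq
  have hdim : Module.finrank K Com ≤ r :=
    (LinearMap.finrank_le_finrank_of_injective hΘ).trans (by rw [Module.finrank_fintype_fun_eq_card, Fintype.card_fin])
  have heq := Submodule.eq_of_le_of_finrank_le hle
    (by rw [finrank_span_eq_card hf, Fintype.card_fin]; exact hdim)
  rw [heq]
  exact hg

/-- In a central simple algebra, an element whose subalgebra is separable of the maximal dimension
is its own centralizer. -/
theorem commute_mem_adjoin (k : Type u) [Field k] {A : Type v} [Ring A] [Algebra k A]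
    [Algebra.IsCentral k A] [IsSimpleRing A] [FiniteDimensional k A] (r : ℕ)
    (hA : Module.finrank k A = r ^ 2) (x : A)
    [Algebra.IsSeparable k (Algebra.adjoin k ({x} : Set A))]
    (hrk : Module.finrank k (Algebra.adjoin k ({x} : Set A)) = r) (y : A) (hy : y * x = x * y) :
    y ∈ Algebra.adjoin k ({x} : Set A) := by
  classical
  have hxi : IsIntegral k x := Algebra.IsIntegral.isIntegral x
  have hdeg : (minpoly k x).natDegree = r := (finrank_adjoin k x hxi).symm.trans hrk
  have hsep := separable_minpoly_of_adjoin k x
  obtain ⟨n, hn, ⟨e⟩⟩ := CSAlg.splits_separableClosure (k := k) A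
  let K := SeparableClosure k
  have hn' : n = r := by
    have := e.toLinearEquiv.finrank_eq
    rw [Module.finrank_baseChange, hA, Module.finrank_matrix, Fintype.card_fin] at this
    simp at this
    nlinarith
  subst hn'
  let φ : K ⊗[k] A ≃ₐ[K] Module.End K (Fin n → K) := e.trans Matrix.toLinAlgEquiv'
  let ι : A →ₐ[k] Module.End K (Fin n → K) := (φ.restrictScalars k).toAlgHom.comp Algebra.TensorProduct.includeRight
  have hι : ∀ a, ι a = φ ((1 : K) ⊗ₜ a) := fun _ => rfl
  let f := ι x
  have hli : LinearIndependent K fun i : Fin n => f ^ (i : ℕ) := by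
    have h0 : LinearIndependent k fun i : Fin n => x ^ (i : ℕ) := by
      rw [← hdeg]
      exact linearIndependent_pow x
    rw [Fintype.linearIndependent_iff]
    intro c hc i
    let l := Fintype.linearCombination k (fun i : Fin n => x ^ (i : ℕ))
    have hl : Function.Injective l := linearIndependent_iff_injective_fintypeLinearCombination.1 h0
    have hl' : Function.Injective (l.baseChange K) :=
      Module.Flat.lTensor_preserves_injective_linearMap (M := K) l hl
    let z : K ⊗[k] (Fin n → k) := ∑ j, c j ⊗ₜ Pi.single j 1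
    have hz : l.baseChange K z = 0 := by
      apply φ.injective
      rw [map_zero, ← hc]
      simp only [z, map_sum, LinearMap.baseChange_tmul, l, Fintype.linearCombination_apply_single, one_smul]
      refine Finset.sum_congr rfl fun j _ => ?_
      rw [show c j ⊗ₜ[k] (x ^ (j : ℕ)) = c j • ((1 : K) ⊗ₜ[k] (x ^ (j : ℕ))) by
        rw [TensorProduct.smul_tmul', smul_eq_mul, mul_one], map_smul, ← hι, map_pow]
    have hz0 : z = 0 := hl' (hz.trans (map_zero _).symm)
    have := congrArg (fun w => TensorProduct.piScalarRight k K K (Fin n) w i) hz0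
    simpa [z, Pi.single_apply] using this
  obtain ⟨μ, hμ, hroot⟩ : ∃ μ : Fin n → K, Function.Injective μ ∧
      ∀ i, aeval (μ i) (minpoly k x) = 0 := by
    have hcard : Fintype.card ((minpoly k x).rootSet K) = n :=
      (card_rootSet_eq_natDegree hsep (IsSepClosed.splits_codomain _ hsep)).trans hdeg
    let e' := (Fintype.equivFinOfCardEq hcard).symm
    exact ⟨fun i => (e' i : K), Subtype.val_injective.comp e'.injective,
      fun i => aeval_eq_zero_of_mem_rootSet (e' i).2⟩
  have heig : ∀ i, f.HasEigenvalue (μ i) := by
    intro i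
    rw [Module.End.hasEigenvalue_iff_isRoot]
    have hdvd : minpoly K f ∣ (minpoly k x).map (algebraMap k K) :=
      minpoly.dvd _ _ (by rw [aeval_map_algebraMap, aeval_algHom_apply, minpoly.aeval, map_zero])
    have hfi : IsIntegral K f := Algebra.IsIntegral.isIntegral f
    have hmon : ((minpoly k x).map (algebraMap k K)).Monic := (minpoly.monic hxi).map _
    have hge : n ≤ (minpoly K f).natDegree := by
      rw [← finrank_adjoin K f hfi, ← Subalgebra.finrank_toSubmodule]
      have hle : Submodule.span K (Set.range fun i : Fin n => f ^ (i : ℕ)) ≤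
          (Algebra.adjoin K ({f} : Set (Module.End K (Fin n → K)))).toSubmodule := by
        rw [Submodule.span_le]
        rintro _ ⟨j, rfl⟩
        exact pow_mem (Algebra.subset_adjoin (Set.mem_singleton f)) _
      exact (by rw [finrank_span_eq_card hli, Fintype.card_fin] :
        n = Module.finrank K (Submodule.span K (Set.range fun i : Fin n => f ^ (i : ℕ)))).trans_le
          (Submodule.finrank_mono hle)
    have heq : (minpoly k x).map (algebraMap k K) = minpoly K f :=
      Polynomial.eq_of_monic_of_dvd_of_natDegree_le (minpoly.monic hfi) hmon hdvd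
        (by rw [natDegree_map, hdeg]; exact hge)
    rw [← heq, IsRoot, eval_map_algebraMap]
    exact hroot i
  have hg : ι y * f = f * ι y := by rw [← map_mul, hy, map_mul]
  have hmem := commute_mem_span (Module.finrank_fin_fun K) f hli μ hμ heig (ι y) hg
  let S := (Algebra.adjoin k ({x} : Set A)).toSubmodule
  have h0 : (S.mkQ.baseChange K) ((1 : K) ⊗ₜ y) = 0 := by
    rw [← φ.symm_apply_apply ((1 : K) ⊗ₜ y), ← hι]
    refine Submodule.span_induction (p := fun w _ => S.mkQ.baseChange K (φ.symm w) = 0)
      ?_ (by rw [map_zero, map_zero]) (fun a b _ _ ha hb => by rw [map_add, map_add, ha, hb, add_zero])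
      (fun c a _ ha => by rw [map_smul, map_smul, ha, smul_zero]) hmem
    rintro _ ⟨j, rfl⟩
    dsimp only [f]
    rw [← map_pow, hι, φ.symm_apply_apply, LinearMap.baseChange_tmul,
      show S.mkQ (x ^ (j : ℕ)) = 0 from (Submodule.Quotient.mk_eq_zero _).2
        (pow_mem (Algebra.subset_adjoin (Set.mem_singleton x)) _), TensorProduct.tmul_zero]
  rw [LinearMap.baseChange_tmul] at h0
  have hinj : Function.Injective fun q : A ⧸ S => (1 : K) ⊗ₜ[k] q := by
    intro q q' hq
    have := Module.Flat.rTensor_preserves_injective_linearMap (M := A ⧸ S) (Algebra.linearMap k K)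
      (algebraMap k K).injective (a₁ := (1 : k) ⊗ₜ q) (a₂ := (1 : k) ⊗ₜ q') (by simpa using hq)
    simpa using congrArg (TensorProduct.lid k (A ⧸ S)) this
  exact (Submodule.Quotient.mk_eq_zero S).1 (hinj (h0.trans (TensorProduct.tmul_zero _ _).symm))

/-- Powers of a lift of a regular separable element of the fibre. -/
theorem regular_section {R : Type u} [CommRing R] [IsLocalRing R] {A : Type u} [Ring A] [Algebra R A]
    [IsAzumaya R A] (r : ℕ) (hA : Module.finrank R A = r ^ 2) (ξ : A)
    [Algebra.IsSeparable (IsLocalRing.ResidueField R)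
      (Algebra.adjoin (IsLocalRing.ResidueField R)
        ({(1 : IsLocalRing.ResidueField R) ⊗ₜ[R] ξ} : Set (IsLocalRing.ResidueField R ⊗[R] A)))]
    (hrk : Module.finrank (IsLocalRing.ResidueField R)
      (Algebra.adjoin (IsLocalRing.ResidueField R)
        ({(1 : IsLocalRing.ResidueField R) ⊗ₜ[R] ξ} : Set (IsLocalRing.ResidueField R ⊗[R] A))) = r) :
    LinearIndependent R (fun i : Fin r => ξ ^ (i : ℕ)) ∧
      ∀ z : A, z * ξ = ξ * z → z ∈ Submodule.span R (Set.range fun i : Fin r => ξ ^ (i : ℕ)) := by
  classical
  let k := IsLocalRing.ResidueField R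
  have : Module.Free R A := Module.free_of_flat_of_isLocalRing
  cases subsingleton_or_nontrivial A
  · have hr : r = 0 := by simpa [Module.finrank_zero_of_subsingleton] using hA.symm
    subst hr
    exact ⟨linearIndependent_empty_type, fun z _ => by rw [Subsingleton.elim z 0]; exact zero_mem _⟩
  obtain ⟨hcen, hsimp⟩ := (isAzumaya_iff_residue R A).1 ‹_›
  let x : k ⊗[R] A := (1 : k) ⊗ₜ ξ
  have hxi : IsIntegral k x := Algebra.IsIntegral.isIntegral x
  have hdeg : (minpoly k x).natDegree = r := (finrank_adjoin k x hxi).symm.trans hrk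
  have hA' : Module.finrank k (k ⊗[R] A) = r ^ 2 := by rw [Module.finrank_baseChange, hA]
  have hpow : ∀ i : ℕ, (1 : k) ⊗ₜ[R] (ξ ^ i) = x ^ i := fun i =>
    map_pow (Algebra.TensorProduct.includeRight : A →ₐ[R] k ⊗[R] A) ξ i
  have hv : LinearIndependent k fun i : Fin r => x ^ (i : ℕ) := by
    rw [← hdeg]; exact linearIndependent_pow x
  refine ⟨Module.IsLocalRing.linearIndependent_of_flat _ (by simpa [Function.comp_def, hpow] using hv), ?_⟩
  -- a complement
  let V := Submodule.span k (Set.range fun i : Fin r => x ^ (i : ℕ))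
  obtain ⟨U, hU⟩ := V.exists_isCompl
  let bU := Module.finBasis k U
  let bbar : Module.Basis (Fin r ⊕ Fin (Module.finrank k U)) k (k ⊗[R] A) :=
    ((Module.Basis.span hv).prod bU).map (V.prodEquivOfIsCompl U hU)
  choose w hw using fun l => TensorProduct.mk_surjective R A k IsLocalRing.residue_surjective (bU l : k ⊗[R] A)
  let v : Fin r ⊕ Fin (Module.finrank k U) → A := Sum.elim (fun i => ξ ^ (i : ℕ)) w
  have hvb : ∀ i, (1 : k) ⊗ₜ[R] v i = bbar i := by
    rintro (i | l)
    · simp [v, bbar, hpow, Module.Basis.span_apply]
    · exact (hw l).trans (by simp [bbar])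
  have hspan : Submodule.span R (Set.range v) = ⊤ :=
    IsLocalRing.span_eq_top_of_tmul_eq_basis _ bbar hvb
  have hcomm : ∀ a : k ⊗[R] A, a * x = x * a → a ∈ V := by
    intro a ha
    have := commute_mem_adjoin k r hA' x hrk a ha
    rw [← Subalgebra.mem_toSubmodule, adjoin_eq_span k x hxi] at this
    rw [hdeg] at this
    exact this
  have hadli : LinearIndependent R fun l => w l * ξ - ξ * w l := by
    refine Module.IsLocalRing.linearIndependent_of_flat _ ?_
    rw [Fintype.linearIndependent_iff]
    intro c hc l
    let a : k ⊗[R] A := ∑ l, c l • (bU l : k ⊗[R] A)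
    have hax : a * x = x * a := by
      rw [← sub_eq_zero, ← hc]
      simp only [a, Finset.sum_mul, Finset.mul_sum, ← Finset.sum_sub_distrib]
      refine Finset.sum_congr rfl fun l _ => ?_
      change _ = c l • ((1 : k) ⊗ₜ[R] (w l * ξ - ξ * w l))
      rw [smul_mul_assoc, mul_smul_comm, ← smul_sub, TensorProduct.tmul_sub,
        show (bU l : k ⊗[R] A) = (1 : k) ⊗ₜ[R] w l from (hw l).symm]
      simp [x, Algebra.TensorProduct.tmul_mul_tmul]
    have haU : a ∈ U := Submodule.sum_mem _ fun l _ => U.smul_mem _ (bU l).2
    have ha0 : a = 0 := Submodule.disjoint_def.1 hU.disjoint a (hcomm a hax) haU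
    have : ∑ l, c l • bU l = 0 := Subtype.ext (by simpa [a] using ha0)
    exact Fintype.linearIndependent_iff.1 bU.linearIndependent c this l
  intro z hz
  obtain ⟨c, rfl⟩ := (Submodule.mem_span_range_iff_exists_fun R).1
    (hspan ▸ Submodule.mem_top : z ∈ Submodule.span R (Set.range v))
  rw [Fintype.sum_sum_type] at hz ⊢
  have hsum : ∑ l, c (Sum.inr l) • (w l * ξ - ξ * w l) = 0 := by
    rw [← sub_eq_zero] at hz
    rw [← hz]
    simp only [v, Sum.elim_inl, Sum.elim_inr, add_mul, mul_add, Finset.sum_mul, Finset.mul_sum,
      smul_mul_assoc, mul_smul_comm, smul_sub, Finset.sum_sub_distrib, (Commute.pow_self ξ _).eq]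
    abel
  have hzero := Fintype.linearIndependent_iff.1 hadli _ hsum
  simp only [v, Sum.elim_inl, Sum.elim_inr, hzero, zero_smul, Finset.sum_const_zero, add_zero]
  exact Submodule.sum_mem _ fun i _ => Submodule.smul_mem _ _ (Submodule.subset_span ⟨i, rfl⟩)

end Groth.Agent.Azumaya
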