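import Groth.Agent.Lib.CSAlg.Split
import Groth.Agent.Lib.Azumaya.Regular
import Mathlib.FieldTheory.Finite.Extension
import Mathlib.FieldTheory.PrimitiveElement
import Mathlib.FieldTheory.Minpoly.Field
import Mathlib.RingTheory.LittleWedderburn
import Mathlib.LinearAlgebra.Matrix.ToLin

/-!
# Existence of regular separable elements in central simple algebras
-/

set_option autoImplicit false

universe u v w

open Polynomial

namespace Groth.Agent.Azumaya

variable {k : Type u} [Field k]

/-- A subalgebra generated by the image of a generator of a separable algebra. -/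
theorem adjoin_image_spec {A : Type v} [Ring A] [Algebra k A] {P : Type w} [CommRing P] [Algebra k P]
    [Algebra.IsSeparable k P] (φ : P →ₐ[k] A) (hφ : Function.Injective φ) (α : P)
    (hα : Algebra.adjoin k ({α} : Set P) = ⊤) :
    Algebra.IsSeparable k (Algebra.adjoin k ({φ α} : Set A)) ∧
      Module.finrank k (Algebra.adjoin k ({φ α} : Set A)) = Module.finrank k P := by
  have h : Algebra.adjoin k ({φ α} : Set A) = φ.range := by
    rw [← AlgHom.map_adjoin_singleton, hα, Algebra.map_top]
  rw [h]
  exact ⟨AlgEquiv.Algebra.isSeparable (AlgEquiv.ofInjective φ hφ),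
    (AlgEquiv.ofInjective φ hφ).toLinearEquiv.finrank_eq.symm⟩

/-- A finite power of a separable field extension is separable. -/
theorem isSeparable_pi {L : Type w} [Field L] [Algebra k L] [FiniteDimensional k L]
    [Algebra.IsSeparable k L] (n : ℕ) : Algebra.IsSeparable k (Fin n → L) := by
  classical
  refine ⟨fun y => ?_⟩
  let s : Finset k[X] := Finset.univ.image fun i => minpoly k (y i)
  have hirr : ∀ f ∈ s, Irreducible f ∧ f.Monic ∧ f.Separable := by
    intro f hf
    obtain ⟨i, -, rfl⟩ := Finset.mem_image.1 hf
    exact ⟨minpoly.irreducible (IsIntegral.of_finite k _), minpoly.monic (IsIntegral.of_finite k _),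
      Algebra.IsSeparable.isSeparable k (y i)⟩
  have hsep : (∏ f ∈ s, f).Separable := by
    refine separable_prod' (fun f hf g hg hne => ?_) fun f hf => (hirr f hf).2.2
    exact (hirr f hf).1.coprime_iff_not_dvd.2 fun h => hne (eq_of_monic_of_associated (hirr f hf).2.1
      (hirr g hg).2.1 ((hirr f hf).1.associated_of_dvd (hirr g hg).1 h))
  refine hsep.of_dvd (minpoly.dvd k y ?_)
  ext i
  have : aeval y (∏ f ∈ s, f) i = aeval (y i) (∏ f ∈ s, f) :=
    (Polynomial.aeval_algHom_apply (Pi.evalAlgHom k (fun _ : Fin n => L) i) y _).symm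
  rw [this, map_prod, Finset.prod_eq_zero
    (Finset.mem_image.2 ⟨i, Finset.mem_univ i, rfl⟩ : minpoly k (y i) ∈ s) (minpoly.aeval k (y i))]
  rfl

theorem exists_pi_generator [Infinite k] {L : Type w} [Field L] [Algebra k L] [FiniteDimensional k L]
    [Algebra.IsSeparable k L] (n : ℕ) :
    ∃ α : Fin n → L, Algebra.adjoin k ({α} : Set (Fin n → L)) = ⊤ := by
  classical
  obtain ⟨θ, hθ⟩ := Field.exists_primitive_element k L
  have hθi : IsIntegral k θ := IsIntegral.of_finite k θ
  have hdeg : (minpoly k θ).natDegree = Module.finrank k L := by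
    rw [← IntermediateField.adjoin.finrank hθi, hθ, IntermediateField.finrank_top']
  let Φ : k → k[X] := fun c => minpoly k (θ + algebraMap k L c)
  have hfib : ∀ p ∈ Set.range Φ, (Φ ⁻¹' {p}).Finite := by
    rintro p ⟨c, rfl⟩
    refine Set.Finite.of_finite_image (f := fun a : k => θ + algebraMap k L a)
      (((Φ c).rootSet_finite L).subset ?_)
      fun a _ b _ h => (algebraMap k L).injective (add_left_cancel h)
    rintro _ ⟨a, ha, rfl⟩
    have ha' : Φ a = Φ c := ha
    rw [mem_rootSet]
    exact ⟨minpoly.ne_zero (IsIntegral.of_finite k _), ha'.symm ▸ minpoly.aeval k _⟩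
  have hinf : (Set.range Φ).Infinite := fun h => Set.infinite_univ
    ((h.biUnion hfib).subset fun c _ => Set.mem_biUnion ⟨c, rfl⟩ rfl)
  let e : Fin n ↪ Set.range Φ := Fin.valEmbedding.trans (hinf.natEmbedding _)
  choose c hc using fun i => (e i).2
  have hinj : Function.Injective fun i => Φ (c i) := fun i j h => e.injective (Subtype.ext
    ((hc i).symm.trans (h.trans (hc j))))
  let α : Fin n → L := fun i => θ + algebraMap k L (c i)
  refine ⟨α, Algebra.toSubmodule_eq_top.1 ?_⟩
  refine Submodule.eq_top_of_finrank_eq (le_antisymm (Submodule.finrank_le _) ?_)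
  rw [Subalgebra.finrank_toSubmodule, finrank_adjoin k α (IsIntegral.of_finite k α),
    Module.finrank_pi_fintype]
  have hmon : ∀ i, (minpoly k (α i)).Monic := fun i => minpoly.monic (IsIntegral.of_finite k _)
  have hd : ∀ i, (minpoly k (α i)).natDegree = Module.finrank k L := fun i => by
    rw [minpoly.add_algebraMap, natDegree_comp, natDegree_X_sub_C, mul_one, hdeg]
  have hdvd : (∏ i, minpoly k (α i)) ∣ minpoly k α := by
    refine Fintype.prod_dvd_of_coprime (fun i j hij => ?_) fun i => minpoly.dvd k _ ?_
    · exact (minpoly.irreducible (IsIntegral.of_finite k (α i))).coprime_iff_not_dvd.2 fun h =>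
        hij (hinj (eq_of_monic_of_associated (hmon i) (hmon j)
          ((minpoly.irreducible (IsIntegral.of_finite k (α i))).associated_of_dvd
            (minpoly.irreducible (IsIntegral.of_finite k (α j))) h)))
    · have := Polynomial.aeval_algHom_apply (Pi.evalAlgHom k (fun _ : Fin n => L) i) α (minpoly k α)
      rw [minpoly.aeval, map_zero] at this
      exact this
  refine le_trans (le_of_eq ?_) (natDegree_le_of_dvd hdvd (minpoly.ne_zero (IsIntegral.of_finite k α)))
  rw [natDegree_prod_of_monic _ _ fun i _ => hmon i]
  simp [hd]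

theorem exists_regular_separable (k : Type u) [Field k] (A : Type v) [Ring A] [Algebra k A]
    [Algebra.IsCentral k A] [IsSimpleRing A] [FiniteDimensional k A] (r : ℕ)
    (hA : Module.finrank k A = r ^ 2) :
    ∃ x : A, Algebra.IsSeparable k (Algebra.adjoin k ({x} : Set A)) ∧
      Module.finrank k (Algebra.adjoin k ({x} : Set A)) = r := by
  classical
  obtain ⟨n, hn, D, _, _, _, _, ⟨e⟩⟩ := CSAlg.exists_algEquiv_matrix_central_divisionRing (k := k) A
  have hrD : r ^ 2 = n * n * Module.finrank k D := by
    rw [← hA, e.toLinearEquiv.finrank_eq, Module.finrank_matrix, Fintype.card_fin]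
  rcases finite_or_infinite k with hk | hk
  · -- over a finite field the division algebra is trivial
    have : Finite D := Module.finite_of_finite k
    have hD : Module.finrank k D = 1 := by
      have hc : Subalgebra.center k D = ⊤ := eq_top_iff.2 fun z _ =>
        Subalgebra.mem_center_iff.2 fun b => (littleWedderburn D).mul_comm b z
      rw [← Subalgebra.bot_eq_top_iff_finrank_eq_one, ← hc]
      exact (Algebra.IsCentral.center_eq_bot k D).symm
    have hrn : n = r := Nat.pow_left_injective two_ne_zero
      (show n ^ 2 = r ^ 2 by rw [hrD, hD, mul_one, sq])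
    obtain ⟨p, hp⟩ := CharP.exists k
    haveI : Fact p.Prime := ⟨CharP.char_is_prime k p⟩
    let F := FiniteField.Extension k p n
    haveI : Algebra.IsSeparable k F := inferInstance
    let b : Module.Basis (Fin n) k F :=
      Module.finBasisOfFinrankEq k F (FiniteField.finrank_extension k p n)
    let φ : F →ₐ[k] A :=
      (e.symm.toAlgHom.comp (Algebra.ofId k D).mapMatrix).comp (Algebra.leftMulMatrix b)
    have hφ : Function.Injective φ := e.symm.injective.comp
      (Matrix.map_injective (algebraMap k D).injective) |>.comp (Algebra.leftMulMatrix_injective b)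
    obtain ⟨α, hα⟩ := Field.exists_primitive_element k F
    have hα' : Algebra.adjoin k ({α} : Set F) = ⊤ := by
      rw [← IntermediateField.adjoin_simple_toSubalgebra_of_isAlgebraic
        (IsIntegral.of_finite k α).isAlgebraic, hα, IntermediateField.top_toSubalgebra]
    refine ⟨φ α, (adjoin_image_spec φ hφ α hα').1, ?_⟩
    rw [(adjoin_image_spec φ hφ α hα').2, FiniteField.finrank_extension, hrn]
  · obtain ⟨L, hcomm, hsep, hcent⟩ := CSAlg.exists_separable_centralizer_eq (k := k) (D := D)
    letI : CommRing L := { L.toRing with mul_comm := fun x y => Subtype.ext (hcomm x x.2 y y.2) }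
    letI : Field L := fieldOfFiniteDimensional k L
    haveI := hsep
    have hrn : n * Module.finrank k L = r := Nat.pow_left_injective two_ne_zero
      (show (n * Module.finrank k L) ^ 2 = r ^ 2 by
        rw [hrD, CSAlg.finrank_eq_sq_of_centralizer_eq L hcent]; ring)
    haveI := isSeparable_pi (k := k) (L := L) n
    let φ : (Fin n → L) →ₐ[k] A :=
      (e.symm.toAlgHom.comp L.val.mapMatrix).comp (Matrix.diagonalAlgHom k)
    have hφ : Function.Injective φ := e.symm.injective.comp
      (Matrix.map_injective (f := L.val) Subtype.val_injective) |>.comp Matrix.diagonal_injective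
    obtain ⟨α, hα⟩ := exists_pi_generator (k := k) (L := L) n
    refine ⟨φ α, (adjoin_image_spec φ hφ α hα).1, ?_⟩
    rw [(adjoin_image_spec φ hφ α hα).2, Module.finrank_pi_fintype]
    simp [hrn]

end Groth.Agent.Azumaya
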