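import Groth.Agent.Lib.CSAlg.Split
import Mathlib.Algebra.Azumaya.Basic
import Mathlib.Algebra.Azumaya.Matrix
import Mathlib.LinearAlgebra.TensorProduct.Tower
import Mathlib.RingTheory.Finiteness.Nakayama
import Mathlib.RingTheory.Finiteness.Projective
import Mathlib.LinearAlgebra.Contraction

/-!
# Azumaya algebras and their fibres
-/

set_option autoImplicit false

universe u v w

open TensorProduct MulOpposite

namespace Groth.Agent.Azumaya

section Nak

theorem subsingleton_of_forall_maximal {R : Type u} [CommRing R] (M : Type v) [AddCommGroup M]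
    [Module R M] [Module.Finite R M]
    (h : ∀ m : Ideal R, m.IsMaximal → (⊤ : Submodule R M) ≤ m • ⊤) : Subsingleton M := by
  have hann : Module.annihilator R M = ⊤ := by
    by_contra hne
    obtain ⟨m, hm, hle⟩ := Ideal.exists_le_maximal _ hne
    obtain ⟨r, hr, hr'⟩ := Submodule.exists_sub_one_mem_and_smul_eq_zero_of_fg_of_le_smul m
      (⊤ : Submodule R M) Module.Finite.fg_top (h m hm)
    refine hm.ne_top (m.eq_top_iff_one.2 ?_)
    have := m.sub_mem (hle (Module.mem_annihilator.2 fun x => hr' x trivial)) hr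
    rwa [sub_sub_cancel] at this
  refine subsingleton_of_forall_eq 0 fun x => ?_
  have : (1 : R) ∈ Module.annihilator R M := hann ▸ Submodule.mem_top
  simpa using Module.mem_annihilator.1 this x

end Nak

variable {R : Type u} [CommRing R] {A : Type v} [Ring A] [Algebra R A]

theorem exists_dual_basis [Module.Finite R A] [Module.Projective R A] :
    ∃ (n : ℕ) (b : Fin n → A) (φ : Fin n → A →ₗ[R] R), ∀ x, x = ∑ j, φ j x • b j := by
  obtain ⟨n, f, g, -, -, hfg⟩ := Module.Finite.exists_comp_eq_id_of_projective R A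
  refine ⟨n, fun j => f (Pi.single j 1), fun j => (LinearMap.proj j) ∘ₗ g, fun x => ?_⟩
  classical
  conv_lhs => rw [← LinearMap.id_apply (R := R) x, ← hfg, LinearMap.comp_apply,
    pi_eq_sum_univ (g x), map_sum]
  refine Finset.sum_congr rfl fun j _ => ?_
  rw [LinearMap.map_smul]
  congr 1
  congr 1
  ext i
  simp [Pi.single_apply, eq_comm]

variable (S : Type w) [CommRing S] [Algebra R S]

/-- Base change of endomorphisms generates all endomorphisms. -/
theorem mem_span_baseChange [Module.Finite R A] [Module.Projective R A]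
    (g' : Module.End S (S ⊗[R] A)) :
    g' ∈ Submodule.span S (Set.range fun g : Module.End R A => g.baseChange S) := by
  obtain ⟨n, b, φ, hb⟩ := exists_dual_basis (R := R) (A := A)
  choose t ht using fun j => TensorProduct.exists_finset (g' (1 ⊗ₜ b j))
  have : g' = ∑ j, ∑ x ∈ t j, x.1 • ((φ j).smulRight x.2).baseChange S := by
    refine TensorProduct.AlgebraTensorModule.ext fun s x => ?_
    rw [show s ⊗ₜ[R] x = s • ((1 : S) ⊗ₜ[R] x) by rw [TensorProduct.smul_tmul', smul_eq_mul, mul_one],
      map_smul, map_smul]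
    congr 1
    conv_lhs => rw [hb x, TensorProduct.tmul_sum, map_sum]
    rw [LinearMap.sum_apply]
    refine Finset.sum_congr rfl fun j _ => ?_
    rw [TensorProduct.tmul_smul, LinearMap.map_smul_of_tower, ht, Finset.smul_sum, LinearMap.sum_apply]
    refine Finset.sum_congr rfl fun y _ => ?_
    rw [LinearMap.smul_apply, LinearMap.baseChange_tmul, LinearMap.smulRight_apply, TensorProduct.tmul_smul,
      TensorProduct.smul_tmul', TensorProduct.smul_tmul', TensorProduct.smul_tmul', smul_eq_mul, mul_smul_comm, mul_one]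
  rw [this]
  exact Submodule.sum_mem _ fun j _ => Submodule.sum_mem _ fun y _ =>
    Submodule.smul_mem _ _ (Submodule.subset_span ⟨_, rfl⟩)

theorem baseChange_mulLeftRight (a b : A) :
    (AlgHom.mulLeftRight R A (a ⊗ₜ op b)).baseChange S =
      AlgHom.mulLeftRight S (S ⊗[R] A) (((1 : S) ⊗ₜ[R] a) ⊗ₜ op ((1 : S) ⊗ₜ[R] b)) := by
  refine TensorProduct.AlgebraTensorModule.ext fun s x => ?_
  simp [Algebra.TensorProduct.tmul_mul_tmul]

theorem baseChange_mem_range (z : A ⊗[R] Aᵐᵒᵖ) :
    (AlgHom.mulLeftRight R A z).baseChange S ∈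
      LinearMap.range (AlgHom.mulLeftRight S (S ⊗[R] A)).toLinearMap := by
  induction z using TensorProduct.induction_on with
  | zero => rw [map_zero, LinearMap.baseChange_zero]; exact zero_mem _
  | add x y hx hy => rw [map_add, LinearMap.baseChange_add]; exact add_mem hx hy
  | tmul a b => exact ⟨_, (baseChange_mulLeftRight S a b.unop).symm⟩

theorem surjective_baseChange [Module.Finite R A] [Module.Projective R A]
    (h : Function.Surjective (AlgHom.mulLeftRight R A)) :
    Function.Surjective (AlgHom.mulLeftRight S (S ⊗[R] A)) := by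
  intro g'
  have hle : Submodule.span S (Set.range fun g : Module.End R A => g.baseChange S) ≤
      LinearMap.range (AlgHom.mulLeftRight S (S ⊗[R] A)).toLinearMap := by
    rw [Submodule.span_le]
    rintro _ ⟨g, rfl⟩
    obtain ⟨z, rfl⟩ := h g
    exact baseChange_mem_range S z
  exact hle (mem_span_baseChange S g')

/-- The fibre of `A ⊗ Aᵐᵒᵖ`. -/
noncomputable def fibreEquiv :
    S ⊗[R] (A ⊗[R] Aᵐᵒᵖ) ≃ₗ[S] (S ⊗[R] A) ⊗[S] (S ⊗[R] A)ᵐᵒᵖ :=
  TensorProduct.AlgebraTensorModule.distribBaseChange R S A Aᵐᵒᵖ ≪≫ₗ
    TensorProduct.congr (LinearEquiv.refl S (S ⊗[R] A))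
      (LinearEquiv.baseChange R S Aᵐᵒᵖ A (MulOpposite.opLinearEquiv R : A ≃ₗ[R] Aᵐᵒᵖ).symm ≪≫ₗ
        (MulOpposite.opLinearEquiv S))

theorem fibreEquiv_spec (z : A ⊗[R] Aᵐᵒᵖ) :
    AlgHom.mulLeftRight S (S ⊗[R] A) (fibreEquiv S ((1 : S) ⊗ₜ z)) =
      (AlgHom.mulLeftRight R A z).baseChange S := by
  induction z using TensorProduct.induction_on with
  | zero => simp
  | add x y hx hy => rw [TensorProduct.tmul_add, map_add, map_add, hx, hy, map_add, LinearMap.baseChange_add]
  | tmul a b =>
    obtain ⟨b, rfl⟩ := MulOpposite.op_surjective b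
    rw [baseChange_mulLeftRight]
    congr 1

theorem exists_one_tmul (hS : Function.Surjective (algebraMap R S)) {M : Type v} [AddCommGroup M]
    [Module R M] (y : S ⊗[R] M) : ∃ x : M, (1 : S) ⊗ₜ[R] x = y := by
  induction y using TensorProduct.induction_on with
  | zero => exact ⟨0, TensorProduct.tmul_zero _ _⟩
  | add a b ha hb =>
    obtain ⟨x, rfl⟩ := ha
    obtain ⟨y, rfl⟩ := hb
    exact ⟨x + y, TensorProduct.tmul_add _ _ _⟩
  | tmul s m =>
    obtain ⟨r, rfl⟩ := hS s
    exact ⟨r • m, by rw [TensorProduct.tmul_smul, TensorProduct.smul_tmul', Algebra.smul_def, mul_one]⟩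

theorem mem_smul_top_of_one_tmul_eq_zero (hS : Function.Surjective (algebraMap R S)) {M : Type v}
    [AddCommGroup M] [Module R M] {x : M} (h : (1 : S) ⊗ₜ[R] x = 0) :
    x ∈ RingHom.ker (algebraMap R S) • (⊤ : Submodule R M) := by
  let I := RingHom.ker (algebraMap R S)
  let e : (R ⧸ I) ≃ₐ[R] S := Ideal.quotientKerAlgEquivOfSurjective (f := Algebra.ofId R S) hS
  have h2 := congrArg (LinearMap.rTensor M e.symm.toLinearMap) h
  rw [LinearMap.rTensor_tmul, map_zero] at h2
  have h3 := congrArg (TensorProduct.quotTensorEquivQuotSMul M I) h2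
  rw [map_zero, AlgEquiv.toLinearMap_apply, map_one] at h3
  rw [← Submodule.Quotient.mk_eq_zero]
  rw [← map_one (Ideal.Quotient.mk I), TensorProduct.quotTensorEquivQuotSMul_mk_tmul, one_smul] at h3
  exact h3

/-- The criterion on fibres at maximal ideals. -/
theorem bijective_of_fibres [Module.Finite R A] [Module.Projective R A]
    (h : ∀ m : Ideal R, m.IsMaximal → ∃ (k : Type w) (_ : CommRing k) (_ : Algebra R k),
      Function.Surjective (algebraMap R k) ∧ RingHom.ker (algebraMap R k) = m ∧
        Function.Bijective (AlgHom.mulLeftRight k (k ⊗[R] A))) :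
    Function.Bijective (AlgHom.mulLeftRight R A) := by
  let f := (AlgHom.mulLeftRight R A).toLinearMap
  obtain ⟨n, b, φ, hb⟩ := exists_dual_basis (R := R) (A := A)
  have : Module.Finite R Aᵐᵒᵖ := Module.Finite.equiv (MulOpposite.opLinearEquiv R)
  have : Module.Projective R Aᵐᵒᵖ := Module.Projective.of_equiv (MulOpposite.opLinearEquiv R)
  have : Module.Finite R (Module.End R A) :=
    Module.Finite.equiv (dualTensorHomEquiv R A A)
  have : Module.Projective R (Module.End R A) :=
    Module.Projective.of_equiv (dualTensorHomEquiv R A A)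
  have hsurj : Function.Surjective f := by
    have : Subsingleton (Module.End R A ⧸ LinearMap.range f) := by
      refine subsingleton_of_forall_maximal (R := R) _ fun m hm => ?_
      obtain ⟨k, _, _, hk, rfl, hb'⟩ := h m hm
      rintro q -
      obtain ⟨g, rfl⟩ := Submodule.mkQ_surjective _ q
      obtain ⟨z', hz'⟩ := hb'.2 (g.baseChange k)
      obtain ⟨z, hz⟩ := exists_one_tmul k hk ((fibreEquiv k).symm z')
      have hmem : g - f z ∈ RingHom.ker (algebraMap R k) • (⊤ : Submodule R (Module.End R A)) := by
        have hx : ∀ x, (g - f z) x ∈ RingHom.ker (algebraMap R k) • (⊤ : Submodule R A) := fun x => by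
          refine mem_smul_top_of_one_tmul_eq_zero k hk ?_
          rw [LinearMap.sub_apply, TensorProduct.tmul_sub, ← LinearMap.baseChange_tmul,
            ← LinearMap.baseChange_tmul, show (f z).baseChange k = g.baseChange k by
              rw [← hz', ← LinearEquiv.apply_symm_apply (fibreEquiv (A := A) k) z', ← hz]
              exact (fibreEquiv_spec k z).symm, sub_self]
        have hsum : g - f z = ∑ j, (φ j).smulRight ((g - f z) (b j)) := by
          ext x
          conv_lhs => rw [hb x, map_sum]
          simp only [LinearMap.map_smul, LinearMap.sum_apply, LinearMap.smulRight_apply]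
        rw [hsum]
        exact Submodule.sum_mem _ fun j _ => by
          have := Submodule.mem_map_of_mem (f := LinearMap.smulRightₗ (φ j)) (hx (b j))
          rw [Submodule.map_smul''] at this
          exact Submodule.smul_mono le_rfl le_top this
      have hq := Submodule.mem_map_of_mem (f := (LinearMap.range f).mkQ) hmem
      rw [Submodule.map_smul'', map_sub,
        show (LinearMap.range f).mkQ (f z) = 0 from (Submodule.Quotient.mk_eq_zero _).2 ⟨z, rfl⟩,
        sub_zero] at hq
      exact Submodule.smul_mono le_rfl le_top hq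
    exact LinearMap.range_eq_top.1 (Submodule.Quotient.subsingleton_iff.1 this)
  refine ⟨?_, hsurj⟩
  obtain ⟨s, hs⟩ := Module.projective_lifting_property f LinearMap.id hsurj
  let p : A ⊗[R] Aᵐᵒᵖ →ₗ[R] LinearMap.ker f := LinearMap.codRestrict _ (LinearMap.id - s ∘ₗ f) fun x => by
    have := LinearMap.congr_fun hs (f x)
    simp only [LinearMap.comp_apply, LinearMap.id_apply] at this
    simp [LinearMap.mem_ker, this]
  have hp : ∀ x : LinearMap.ker f, p x = x := fun x => Subtype.ext (by
    simp [p, LinearMap.mem_ker.1 x.2])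
  have hpsurj : Function.Surjective p := fun x => ⟨x, hp x⟩
  have : Module.Finite R (LinearMap.ker f) := Module.Finite.of_surjective p hpsurj
  have : Subsingleton (LinearMap.ker f) := by
    refine subsingleton_of_forall_maximal (R := R) _ fun m hm => ?_
    obtain ⟨k, _, _, hk, rfl, hb'⟩ := h m hm
    rintro x -
    have hx : (1 : k) ⊗ₜ[R] (x : A ⊗[R] Aᵐᵒᵖ) = 0 := by
      apply (fibreEquiv (A := A) k).injective
      apply hb'.1
      rw [fibreEquiv_spec, show AlgHom.mulLeftRight R A (x : A ⊗[R] Aᵐᵒᵖ) = 0 from LinearMap.mem_ker.1 x.2,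
        LinearMap.baseChange_zero, map_zero, map_zero]
    have := Submodule.mem_map_of_mem (f := p) (mem_smul_top_of_one_tmul_eq_zero k hk hx)
    rw [Submodule.map_smul'', hp] at this
    exact Submodule.smul_mono le_rfl le_top this
  exact (injective_iff_map_eq_zero _).2 fun x hx =>
    congrArg Subtype.val (Subsingleton.elim (⟨x, hx⟩ : LinearMap.ker f) 0)

end Groth.Agent.Azumaya
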