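import Groth.Agent.Lib.Azumaya.SpreadEtale
import Groth.Agent.Lib.Hens.Pair
import Mathlib.LinearAlgebra.Matrix.Charpoly.LinearMap
import Mathlib.RingTheory.Henselian
import Mathlib.RingTheory.Idempotents

/-!
# Azumaya algebras over henselian local rings
-/

set_option autoImplicit false

universe u v w

open Polynomial TensorProduct MulOpposite IsLocalRing

namespace Groth.Agent.Azumaya

theorem eq_of_commute_idempotent_of_isNilpotent_sub {S : Type v} [Ring S] {e f : S} (he : e * e = e)
    (hf : f * f = f) (hc : e * f = f * e) (h : IsNilpotent (e - f)) : e = f := by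
  have hef : e * (e * f) = e * f := by rw [← mul_assoc, he]
  have hfe : f * (e * f) = e * f := by rw [← mul_assoc, ← hc, mul_assoc, hf]
  have h3 : (e - f) * ((e - f) * (e - f)) = e - f := by
    have h2 : (e - f) * (e - f) = e + f - (e * f + e * f) := by
      rw [sub_mul, mul_sub, mul_sub, he, hf, ← hc]; abel
    rw [h2, sub_mul, mul_sub, mul_sub, mul_add, mul_add, mul_add, mul_add, hef, hfe, he, hf, ← hc]
    abel
  have hpow : ∀ j : ℕ, (e - f) ^ (2 * j + 1) = e - f := fun j => by
    induction j with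
    | zero => simp
    | succ j ih =>
      rw [show 2 * (j + 1) + 1 = (2 * j + 1) + 2 by ring, pow_add, ih, pow_two, h3]
  obtain ⟨n, hn⟩ := h
  exact sub_eq_zero.1 ((hpow n).symm.trans (pow_eq_zero_of_le (by omega) hn))

variable {R : Type u} [CommRing R] [HenselianLocalRing R]

/-- Idempotents lift from the special fibre of a finite algebra over a henselian local ring. -/
theorem exists_idempotent_lift_residue (C : Type u) [Ring C] [Algebra R C] [Module.Finite R C]
    (x : C) (hx : (1 : ResidueField R) ⊗ₜ[R] (x * x) = (1 : ResidueField R) ⊗ₜ[R] x) :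
    ∃ e : C, e * e = e ∧ (1 : ResidueField R) ⊗ₜ[R] e = (1 : ResidueField R) ⊗ₜ[R] x := by
  classical
  let B := Algebra.adjoin R ({x} : Set C)
  haveI hBc := Algebra.isMulCommutative_adjoin R (s := ({x} : Set C)) (by simp)
  letI : CommRing B := { B.toRing with mul_comm := fun a b => hBc.is_comm.comm a b }
  haveI : Module.Finite R B := Module.Finite.iff_fg.2 (IsIntegral.fg_adjoin_singleton (IsIntegral.of_finite R x))
  haveI : Algebra.IsIntegral R B := Algebra.IsIntegral.of_finite R B
  let x' : B := ⟨x, Algebra.subset_adjoin rfl⟩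
  set J := (maximalIdeal R).map (algebraMap R B) with hJ
  have hyC : x * x - x ∈ maximalIdeal R • (⊤ : Submodule R C) := by
    have h0 : (1 : ResidueField R) ⊗ₜ[R] (x * x - x) = 0 := by
      rw [TensorProduct.tmul_sub, hx, sub_self]
    have h1 := mem_smul_top_of_one_tmul_eq_zero (R := R) (S := ResidueField R) residue_surjective h0
    rwa [show RingHom.ker (algebraMap R (ResidueField R)) = maximalIdeal R from ker_residue] at h1
  have hrange : LinearMap.range (LinearMap.mulLeft R (x * x - x)) ≤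
      maximalIdeal R • (⊤ : Submodule R C) := by
    rintro _ ⟨c, rfl⟩
    have := Submodule.mem_map_of_mem (f := LinearMap.mulRight R c) hyC
    rw [Submodule.map_smul''] at this
    exact Submodule.smul_mono le_rfl le_top this
  obtain ⟨q, hq, -, hqc, hq0⟩ := LinearMap.exists_monic_and_natDegree_eq_and_coeff_mem_pow_and_aeval_eq_zero
    R _ (maximalIdeal R) hrange
  let y' : B := x' * x' - x'
  have hy0 : aeval (x * x - x) q = 0 := by
    have h1 : LinearMap.mulLeft R (x * x - x) = Algebra.lmul R C (x * x - x) := rfl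
    rw [h1, aeval_algHom_apply] at hq0
    simpa using LinearMap.congr_fun hq0 1
  have hy' : aeval y' q = 0 := Subtype.val_injective
    ((Polynomial.aeval_algHom_apply B.val y' q).symm.trans hy0)
  have hnil : ∃ n, y' ^ n ∈ J := by
    refine ⟨q.natDegree, ?_⟩
    rw [aeval_eq_sum_range, Finset.sum_range_succ, hq.coeff_natDegree, one_smul] at hy'
    rw [eq_neg_of_add_eq_zero_right hy']
    refine J.neg_mem (J.sum_mem fun i hi => ?_)
    rw [Algebra.smul_def]
    exact J.mul_mem_right _ (Ideal.mem_map_of_mem _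
      (Ideal.pow_le_self (by have := Finset.mem_range.1 hi; omega) (hqc i)))
  obtain ⟨n, hn⟩ := hnil
  let π := Ideal.Quotient.mk J
  let ν : B ⧸ J →+* (B ⧸ J) ⧸ nilradical (B ⧸ J) := Ideal.Quotient.mk _
  obtain ⟨b₁, hb₁, hb₁'⟩ := exists_isIdempotentElem_eq_of_ker_isNilpotent ν
    (fun z hz => by rw [Ideal.mk_ker] at hz; exact hz) (ν (π x')) ⟨π x', rfl⟩ (by
      rw [IsIdempotentElem, ← map_mul, ← map_mul, Ideal.Quotient.mk_eq_mk_iff_sub_mem, mem_nilradical,
        ← map_sub]
      exact ⟨n, by rw [← map_pow, Ideal.Quotient.eq_zero_iff_mem]; exact hn⟩)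
  obtain ⟨b, rfl⟩ := Ideal.Quotient.mk_surjective b₁
  obtain ⟨e, he, heb⟩ := Hens.exists_idempotent_lift
    (A := R) (I := maximalIdeal R) inferInstance b (by
    rw [← Ideal.Quotient.eq, map_mul]
    exact hb₁.eq)
  have hrad : IsNilpotent (π (e - x')) := by
    rw [Ideal.Quotient.mk_eq_mk_iff_sub_mem, mem_nilradical, ← map_sub] at hb₁'
    have h1 : π (e - x') = π (b - x') := Ideal.Quotient.eq.2 (by simpa using heb)
    rw [h1]
    exact hb₁'
  obtain ⟨m, hm⟩ := hrad
  rw [← map_pow, Ideal.Quotient.eq_zero_iff_mem] at hm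
  have hJ0 : ∀ z ∈ J, (1 : ResidueField R) ⊗ₜ[R] (z : C) = 0 := by
    intro z hz
    refine Submodule.span_induction ?_ (by simp) (fun a b _ _ ha hb => by
      push_cast; rw [TensorProduct.tmul_add, ha, hb, add_zero]) (fun a w _ hw => ?_) hz
    · rintro _ ⟨r, hr, rfl⟩
      change (1 : ResidueField R) ⊗ₜ[R] (algebraMap R C r) = 0
      rw [Algebra.algebraMap_eq_smul_one, TensorProduct.tmul_smul,
        ← algebraMap_smul (ResidueField R) r, IsLocalRing.ResidueField.algebraMap_eq,
        (residue_eq_zero_iff r).2 hr, zero_smul]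
    · rw [smul_eq_mul, show ((a * w : B) : C) = (a : C) * (w : C) from rfl,
        show (1 : ResidueField R) ⊗ₜ[R] ((a : C) * (w : C)) =
          ((1 : ResidueField R) ⊗ₜ[R] (a : C)) * ((1 : ResidueField R) ⊗ₜ[R] (w : C)) by simp, hw, mul_zero]
  refine ⟨e, congrArg Subtype.val he.eq, ?_⟩
  let ι : C →ₐ[R] ResidueField R ⊗[R] C := Algebra.TensorProduct.includeRight
  have hι : ∀ c, ι c = (1 : ResidueField R) ⊗ₜ[R] c := fun _ => rfl
  rw [← hι, ← hι]
  refine eq_of_commute_idempotent_of_isNilpotent_sub ?_ ?_ ?_ ⟨m, ?_⟩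
  · rw [← map_mul]; exact congrArg ι (congrArg Subtype.val he.eq)
  · rw [← map_mul]; exact hx
  · rw [← map_mul, ← map_mul]; exact congrArg ι (congrArg Subtype.val (mul_comm e x'))
  · rw [← map_sub, ← map_pow]
    exact hJ0 _ hm

/-- Isomorphisms of special fibres of Azumaya algebras over a henselian local ring lift. -/
theorem exists_algEquiv_lift (A : Type u) [Ring A] [Algebra R A] [IsAzumaya R A] (B : Type u)
    [Ring B] [Algebra R B] [IsAzumaya R B]
    (e₀ : (ResidueField R ⊗[R] A) ≃ₐ[ResidueField R] (ResidueField R ⊗[R] B)) :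
    ∃ e : A ≃ₐ[R] B, ∀ a : A,
      e₀ ((1 : ResidueField R) ⊗ₜ[R] a) = (1 : ResidueField R) ⊗ₜ[R] (e a) := by
  classical
  let k := ResidueField R
  let C := A ⊗[R] Bᵐᵒᵖ
  let V := k ⊗[R] A
  have : Module.Free R A := Module.free_of_flat_of_isLocalRing
  have : Module.Free R B := Module.free_of_flat_of_isLocalRing
  have : Module.Free R Bᵐᵒᵖ := Module.Free.of_equiv (MulOpposite.opLinearEquiv R)
  have : Module.Finite R Bᵐᵒᵖ := Module.Finite.equiv (MulOpposite.opLinearEquiv R)
  haveI : Nontrivial A := by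
    by_contra hn
    haveI := not_nontrivial_iff_subsingleton.1 hn
    exact one_ne_zero (α := R) (FaithfulSMul.eq_of_smul_eq_smul fun a : A => Subsingleton.elim _ _)
  obtain ⟨hcen, hsimp⟩ := (isAzumaya_iff_residue R A).1 ‹_›
  -- the action on the special fibre
  let f : A →ₐ[R] Module.End k V :=
    ((Algebra.lmul k V).restrictScalars R).comp Algebra.TensorProduct.includeRight
  let rm : Vᵐᵒᵖ →ₐ[k] Module.End k V :=
    AlgHom.ofLinearMap ((LinearMap.mul k V).flip.comp (MulOpposite.opLinearEquiv k).symm.toLinearMap)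
      (by ext z; simp) (fun a b => by ext z; simp [mul_assoc])
  let g : Bᵐᵒᵖ →ₐ[R] Module.End k V :=
    (rm.restrictScalars R).comp (AlgHom.op ((e₀.symm.toAlgHom.restrictScalars R).comp
      Algebra.TensorProduct.includeRight))
  have hf : ∀ a z, f a z = ((1 : k) ⊗ₜ a) * z := fun a z => rfl
  have hg : ∀ b z, g (op b) z = z * e₀.symm ((1 : k) ⊗ₜ b) := fun b z => by simp [g, rm]
  have hcomm : ∀ a b, Commute (f a) (g b) := fun a b => LinearMap.ext fun z => by
    obtain ⟨b, rfl⟩ := op_surjective b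
    simp only [Module.End.mul_apply, hf, hg, mul_assoc]
  let θ : C →ₐ[R] Module.End k V := Algebra.TensorProduct.lift f g hcomm
  have hθ : ∀ a b z, θ (a ⊗ₜ op b) z = ((1 : k) ⊗ₜ a) * z * e₀.symm ((1 : k) ⊗ₜ b) := fun a b z => by
    rw [show θ (a ⊗ₜ op b) = f a * g (op b) from Algebra.TensorProduct.lift_tmul f g hcomm a (op b),
      Module.End.mul_apply, hf, hg, mul_assoc]
  let θk : k ⊗[R] C →ₗ[k] Module.End k V := θ.toLinearMap.liftBaseChange k
  have hθk : ∀ c, θk ((1 : k) ⊗ₜ c) = θ c := fun c => by simp [θk]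
  have hsurj : Function.Surjective θ := by
    intro φ
    obtain ⟨z, rfl⟩ := (bij_of_centralSimple k V).2 φ
    induction z using TensorProduct.induction_on with
    | zero => exact ⟨0, by simp⟩
    | add a b ha hb =>
      obtain ⟨c, hc⟩ := ha
      obtain ⟨c', hc'⟩ := hb
      exact ⟨c + c', by rw [map_add, map_add, hc, hc']⟩
    | tmul a b =>
      obtain ⟨a, rfl⟩ := TensorProduct.mk_surjective R A k residue_surjective a
      obtain ⟨b, rfl⟩ := op_surjective b
      obtain ⟨b', hb'⟩ := TensorProduct.mk_surjective R B k residue_surjective (e₀ b)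
      exact ⟨a ⊗ₜ op b', LinearMap.ext fun z => by
        rw [hθ, show (1 : k) ⊗ₜ[R] b' = e₀ b from hb', e₀.symm_apply_apply]; simp⟩
  have hθinj : Function.Injective θk := by
    have hs : Function.Surjective θk := fun φ => by
      obtain ⟨c, rfl⟩ := hsurj φ
      exact ⟨_, hθk c⟩
    have hBA : Module.finrank R B = Module.finrank R A := by
      have := e₀.toLinearEquiv.finrank_eq
      rw [Module.finrank_baseChange, Module.finrank_baseChange] at this
      exact this.symm
    refine (LinearMap.injective_iff_surjective_of_finrank_eq_finrank ?_).2 hs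
    rw [Module.finrank_linearMap, Module.finrank_baseChange, Module.finrank_baseChange,
      Module.finrank_tensorProduct, ← (MulOpposite.opLinearEquiv R : B ≃ₗ[R] Bᵐᵒᵖ).finrank_eq, hBA]
  -- an idempotent of rank one
  obtain ⟨lam, hlam⟩ : ∃ lam : V →ₗ[k] k, lam 1 = 1 := by
    obtain ⟨lam, hl⟩ := Module.Projective.exists_dual_ne_zero k (x := (1 : V)) one_ne_zero
    exact ⟨(lam 1)⁻¹ • lam, by rw [LinearMap.smul_apply, smul_eq_mul, inv_mul_cancel₀ hl]⟩
  let π : Module.End k V := lam.smulRight 1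
  obtain ⟨c₀, hc₀⟩ := hsurj π
  obtain ⟨ε, hε, hεc⟩ := exists_idempotent_lift_residue C c₀ (hθinj (by
    rw [hθk, hθk, map_mul, hc₀]
    refine LinearMap.ext fun z => ?_
    simp [π, hlam]))
  have hεπ : θ ε = π := by rw [← hθk, hεc, hθk, hc₀]
  let ev : C → V := fun c => θ c 1
  have hev : ev ε = 1 := by simp [ev, hεπ, π, hlam]
  -- the map `A → C ε`
  let Φ : A →ₗ[R] C := (LinearMap.mulRight R ε).comp
    (Algebra.TensorProduct.includeLeft : A →ₐ[R] C).toLinearMap
  have hΦ : ∀ a, Φ a = (a ⊗ₜ 1) * ε := fun a => rfl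
  have hevΦ : ∀ a, θ (Φ a) 1 = (1 : k) ⊗ₜ a := fun a => by
    rw [hΦ, map_mul, Module.End.mul_apply, show θ ε 1 = 1 from hev, ← op_one, hθ]
    simp [← Algebra.TensorProduct.one_def]
  let bA := Module.Free.chooseBasis R A
  have hΦinj : Function.Injective Φ := by
    have hli : LinearIndependent R fun i => Φ (bA i) := by
      refine Module.IsLocalRing.linearIndependent_of_flat _ ?_
      let Ev : k ⊗[R] C →ₗ[k] V := (LinearMap.applyₗ (1 : V)).comp θk
      refine LinearIndependent.of_comp Ev ?_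
      have h2 := (bA.baseChange k).linearIndependent
      convert h2 using 1
      funext i
      simp [Ev, hθk, hevΦ]
    intro a a' h
    apply bA.repr.injective
    refine hli ?_
    have hcomp : ∀ z, Finsupp.linearCombination R (fun i => Φ (bA i)) (bA.repr z) = Φ z := fun z => by
      conv_rhs => rw [← bA.linearCombination_repr z]
      exact (Finsupp.apply_linearCombination R Φ bA _).symm
    rw [hcomp, hcomp, h]
  have hΦsurj : ∀ c, c * ε = c → ∃ a, Φ a = c := by
    let P : Submodule R C := LinearMap.range (LinearMap.mulRight R ε)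
    suffices hP : P ≤ LinearMap.range Φ from fun c hc => hP ⟨c, hc⟩
    refine Submodule.le_of_le_smul_of_le_jacobson_bot (Module.Finite.iff_fg.1 inferInstance)
      (IsLocalRing.maximalIdeal_le_jacobson ⊥) ?_
    rintro _ ⟨c, rfl⟩
    set d := LinearMap.mulRight R ε c with hd
    obtain ⟨a, ha⟩ := TensorProduct.mk_surjective R A k residue_surjective (θ d 1)
    have hdε : (d - Φ a) * ε = d - Φ a := by
      simp only [hd, hΦ, LinearMap.mulRight_apply, sub_mul, mul_assoc, hε]
    have h0 : (1 : k) ⊗ₜ[R] (d - Φ a) = 0 := by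
      refine hθinj ?_
      rw [map_zero, hθk, ← hdε, map_mul, hεπ]
      refine LinearMap.ext fun z => ?_
      change θ (d - Φ a) (lam z • (1 : V)) = 0
      rw [map_smul, map_sub, LinearMap.sub_apply, hevΦ, ← show (1 : k) ⊗ₜ[R] a = θ d 1 from ha,
        sub_self, smul_zero]
    have h1 := mem_smul_top_of_one_tmul_eq_zero (R := R) (S := k) residue_surjective h0
    rw [show RingHom.ker (algebraMap R k) = maximalIdeal R from ker_residue] at h1
    have h2 := Submodule.mem_map_of_mem (f := LinearMap.mulRight R ε) h1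
    rw [Submodule.map_smul'', LinearMap.mulRight_apply, hdε] at h2
    refine Submodule.mem_sup.2 ⟨Φ a, ⟨a, rfl⟩, d - Φ a,
      Submodule.smul_mono le_rfl ?_ h2, add_sub_cancel _ _⟩
    rintro _ ⟨z, -, rfl⟩
    exact ⟨z, rfl⟩
  choose ψ hψ using fun b : B => hΦsurj (((1 : A) ⊗ₜ op b) * ε) (by rw [mul_assoc, hε])
  have hψv : ∀ b, (1 : k) ⊗ₜ[R] ψ b = e₀.symm ((1 : k) ⊗ₜ b) := fun b => by
    rw [← hevΦ, hψ, map_mul, Module.End.mul_apply, show θ ε 1 = 1 from hev, hθ]
    simp [← Algebra.TensorProduct.one_def]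
  let ψ' : B →ₐ[R] A := AlgHom.ofLinearMap
    { toFun := ψ
      map_add' := fun b b' => hΦinj (by
        rw [map_add, hψ, hψ, hψ, op_add, TensorProduct.tmul_add, add_mul])
      map_smul' := fun r b => hΦinj (by
        rw [RingHom.id_apply, map_smul, hψ, hψ, op_smul, TensorProduct.tmul_smul, smul_mul_assoc]) }
    (hΦinj (by
      change Φ (ψ 1) = Φ 1
      rw [hψ, hΦ, op_one]))
    (fun b b' => hΦinj (by
      change Φ (ψ (b * b')) = Φ (ψ b * ψ b')
      have hswap : ((1 : A) ⊗ₜ[R] op b') * (ψ b ⊗ₜ[R] (1 : Bᵐᵒᵖ)) =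
          (ψ b ⊗ₜ[R] (1 : Bᵐᵒᵖ)) * ((1 : A) ⊗ₜ[R] op b') := by simp
      have h1 : ((1 : A) ⊗ₜ[R] op b') * Φ (ψ b) = Φ (ψ b * ψ b') := by
        rw [hΦ (ψ b), ← mul_assoc, hswap, mul_assoc, ← hψ b', hΦ, hΦ, ← mul_assoc]
        simp
      rw [← h1, hψ b, hψ, ← mul_assoc]
      simp))
  have hψ'v : ∀ b, (1 : k) ⊗ₜ[R] ψ' b = e₀.symm ((1 : k) ⊗ₜ b) := hψv
  have hbij : Function.Bijective ψ' := by
    have hs : Function.Surjective ψ' := by
      suffices h : (⊤ : Submodule R A) ≤ LinearMap.range ψ'.toLinearMap from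
        fun a => h (Submodule.mem_top (x := a))
      refine Submodule.le_of_le_smul_of_le_jacobson_bot (Module.Finite.iff_fg.1 inferInstance)
        (IsLocalRing.maximalIdeal_le_jacobson ⊥) fun a _ => ?_
      obtain ⟨b, hb⟩ := TensorProduct.mk_surjective R B k residue_surjective (e₀ ((1 : k) ⊗ₜ a))
      have h1 := mem_smul_top_of_one_tmul_eq_zero (R := R) (S := k) residue_surjective
        (show (1 : k) ⊗ₜ[R] (a - ψ' b) = 0 by
          rw [TensorProduct.tmul_sub, hψ'v, show (1 : k) ⊗ₜ[R] b = e₀ _ from hb,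
            e₀.symm_apply_apply, sub_self])
      rw [show RingHom.ker (algebraMap R k) = maximalIdeal R from ker_residue] at h1
      exact Submodule.mem_sup.2 ⟨ψ' b, ⟨b, rfl⟩, a - ψ' b, h1, add_sub_cancel _ _⟩
    have hrank : Module.finrank R A = Module.finrank R B := by
      have := e₀.toLinearEquiv.finrank_eq
      rwa [Module.finrank_baseChange, Module.finrank_baseChange] at this
    let E := LinearEquiv.ofFinrankEq A B hrank
    have hinj : Function.Injective (E.toLinearMap.comp ψ'.toLinearMap) :=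
      OrzechProperty.injective_of_surjective_endomorphism _ (E.surjective.comp hs)
    exact ⟨fun x y h => hinj (show E (ψ' x) = E (ψ' y) by rw [h]), hs⟩
  refine ⟨(AlgEquiv.ofBijective ψ' hbij).symm, fun a => ?_⟩
  apply e₀.symm.injective
  rw [e₀.symm_apply_apply, ← hψ'v]
  exact congrArg _ ((AlgEquiv.ofBijective ψ' hbij).apply_symm_apply a).symm

end Groth.Agent.Azumaya
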