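import Groth.Agent.Lib.Azumaya.Local
import Groth.Agent.Lib.Azumaya.Criteria
import Groth.Agent.Lib.Hens.System
import Mathlib.RingTheory.Henselian
import Mathlib.LinearAlgebra.FreeModule.Finite.Basic

/-!
# Associators, a quadratic Hensel lemma, and exactness for central simple algebras
-/

set_option autoImplicit false

universe u v w

open TensorProduct MulOpposite IsLocalRing

namespace Groth.Agent.Azumaya

section Cochains

variable {R : Type u} [CommRing R] {V : Type v} [AddCommGroup V] [Module R V]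

/-- `(x,y,z) ↦ c' x (c y z)`. -/
def rightAssoc (c c' : V →ₗ[R] V →ₗ[R] V) : V →ₗ[R] V →ₗ[R] V →ₗ[R] V where
  toFun x := c.compr₂ (c' x)
  map_add' x x' := by ext; simp
  map_smul' r x := by ext; simp

theorem rightAssoc_apply (c c' : V →ₗ[R] V →ₗ[R] V) (x y z : V) :
    rightAssoc c c' x y z = c' x (c y z) := rfl

/-- The associator of two multiplications: `(x,y,z) ↦ c' (c x y) z - c' x (c y z)`. -/
def assocPair : (V →ₗ[R] V →ₗ[R] V) →ₗ[R] (V →ₗ[R] V →ₗ[R] V) →ₗ[R]
    V →ₗ[R] V →ₗ[R] V →ₗ[R] V :=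
  LinearMap.mk₂ R (fun c c' => c.compr₂ c' - rightAssoc c c')
    (fun c₁ c₂ c' => by ext; simp [rightAssoc_apply]; abel)
    (fun r c c' => by ext; simp [rightAssoc_apply, smul_sub])
    (fun c c₁ c₂ => by ext; simp [rightAssoc_apply]; abel)
    (fun r c c' => by ext; simp [rightAssoc_apply, smul_sub])

theorem assocPair_apply (c c' : V →ₗ[R] V →ₗ[R] V) (x y z : V) :
    assocPair c c' x y z = c' (c x y) z - c' x (c y z) := by simp [assocPair, rightAssoc_apply]

/-- The Hochschild differential in degree three of a multiplication. -/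
def hoch3 (c : V →ₗ[R] V →ₗ[R] V) : (V →ₗ[R] V →ₗ[R] V →ₗ[R] V) →ₗ[R]
    V →ₗ[R] V →ₗ[R] V →ₗ[R] V →ₗ[R] V where
  toFun f :=
    { toFun := fun x =>
        { toFun := fun y =>
            { toFun := fun z =>
                { toFun := fun t => c x (f y z t) - f (c x y) z t + f x (c y z) t - f x y (c z t) +
                    c (f x y z) t
                  map_add' := fun a b => by simp only [map_add]; abel
                  map_smul' := fun r a => by simp [smul_add, smul_sub] }
              map_add' := fun a b => by ext; simp; abel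
              map_smul' := fun r a => by ext; simp [smul_add, smul_sub] }
          map_add' := fun a b => by ext; simp; abel
          map_smul' := fun r a => by ext; simp [smul_add, smul_sub] }
      map_add' := fun a b => by ext; simp; abel
      map_smul' := fun r a => by ext; simp [smul_add, smul_sub] }
  map_add' f g := by ext; simp; abel
  map_smul' r f := by ext; simp [smul_add, smul_sub]

theorem hoch3_apply (c : V →ₗ[R] V →ₗ[R] V) (f : V →ₗ[R] V →ₗ[R] V →ₗ[R] V) (x y z t : V) :
    hoch3 c f x y z t = c x (f y z t) - f (c x y) z t + f x (c y z) t - f x y (c z t) +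
      c (f x y z) t := rfl

/-- The associator is a cocycle. -/
theorem hoch3_assocPair (c : V →ₗ[R] V →ₗ[R] V) : hoch3 c (assocPair c c) = 0 := by
  ext x y z t
  simp [hoch3_apply, assocPair_apply]
  abel

end Cochains

/-- Zeros of a quadratic system near the origin, over a henselian local ring. -/
theorem exists_zero_of_quadratic {R : Type u} [CommRing R] [HenselianLocalRing R]
    {M : Type v} [AddCommGroup M] [Module R M] {C : Type w} [AddCommGroup C] [Module R C]
    (B : M →ₗ[R] M →ₗ[R] C) {d : ℕ} (P : C →ₗ[R] (Fin d → R)) (c0 : M) (w : Fin d → M)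
    (h0 : ∀ a, residue R (P (B c0 c0) a) = 0)
    (hL : ∀ b a, residue R (P (B c0 (w b) + B (w b) c0) a) = if a = b then 1 else 0) :
    ∃ z : Fin d → R, (∀ b, z b ∈ maximalIdeal R) ∧
      P (B (c0 + ∑ b, z b • w b) (c0 + ∑ b, z b • w b)) = 0 := by
  classical
  let α : Fin d → R := P (B c0 c0)
  let L : Fin d → Fin d → R := fun b => P (B c0 (w b) + B (w b) c0)
  let Q : Fin d → Fin d → Fin d → R := fun b b' => P (B (w b) (w b'))
  let sys : Fin d → MvPolynomial (Fin d) R := fun a => MvPolynomial.C (α a) +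
    ∑ b, MvPolynomial.C (L b a) * MvPolynomial.X b +
    ∑ b, ∑ b', MvPolynomial.C (Q b b' a) * MvPolynomial.X b * MvPolynomial.X b'
  obtain ⟨z, hz, hz0⟩ := Hens.exists_zero_of_isUnit_jacDet
    (inferInstance : HenselianRing R (maximalIdeal R)) sys 0
    (fun a => (residue_eq_zero_iff _).1 (by simp [sys, α, h0])) (by
      have h1 : (Matrix.of fun a b => MvPolynomial.pderiv b (sys a)).map
          ((Ideal.Quotient.mk (maximalIdeal R)).comp (MvPolynomial.eval 0)) = 1 := by
        ext a b
        simp only [Matrix.map_apply, Matrix.of_apply, RingHom.comp_apply]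
        have : MvPolynomial.eval 0 (MvPolynomial.pderiv b (sys a)) = L b a := by
          simp [sys, Pi.single_apply]
          refine Finset.sum_eq_zero fun x _ => Finset.sum_eq_zero fun x' _ => ?_
          split_ifs <;> simp
        rw [this]
        exact (hL b a).trans (by rw [Matrix.one_apply]; split_ifs <;> first | rfl | simp_all)
      have h2 : Ideal.Quotient.mk (maximalIdeal R) (MvPolynomial.eval 0 (Hens.jacDet sys)) = 1 := by
        rw [Hens.jacDet, ← RingHom.comp_apply, RingHom.map_det, RingHom.mapMatrix_apply, h1,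
          Matrix.det_one]
      rw [h2]
      exact isUnit_one)
  refine ⟨z, fun b => by simpa using hz0 b, funext fun a => ?_⟩
  have he : P (B (c0 + ∑ b, z b • w b) (c0 + ∑ b, z b • w b)) a =
      α a + ∑ b, L b a * z b + ∑ b, ∑ b', Q b b' a * z b * z b' := by
    simp only [α, L, Q, map_add, map_sum, map_smul, LinearMap.add_apply, LinearMap.sum_apply,
      LinearMap.smul_apply, Pi.add_apply, Finset.sum_apply, Pi.smul_apply, smul_eq_mul,
      Finset.mul_sum, add_mul, Finset.sum_add_distrib]
    simp only [mul_add, Finset.mul_sum, Finset.sum_add_distrib]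
    have hs : ∑ x, ∑ i, z x * (z i * P (B (w i) (w x)) a) =
        ∑ b, ∑ b', P (B (w b) (w b')) a * z b * z b' := by
      rw [Finset.sum_comm]
      exact Finset.sum_congr rfl fun i _ => Finset.sum_congr rfl fun x _ => by ring
    rw [hs]
    simp only [mul_comm (z _)]
    abel
  rw [he, Pi.zero_apply, ← hz a]
  simp [sys]

/-- Exactness in degree three, from a separability idempotent: a cochain which is a cocycle
modulo the kernel of `ρ` is a coboundary modulo the kernel of `ρ`. -/
theorem exists_coboundary_of_cocycle {R : Type u} [CommRing R] {k : Type v} [Field k] [Algebra R k]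
    {N : ℕ} (A₀ : Type w) [Ring A₀] [Algebra k A₀] [Algebra.IsCentral k A₀] [IsSimpleRing A₀]
    [FiniteDimensional k A₀] [Algebra R A₀] [IsScalarTower R k A₀] (b0 : Module.Basis (Fin N) k A₀)
    (ρ : (Fin N → R) →ₗ[R] A₀) (hρe : ∀ i, ρ (Pi.basisFun R (Fin N) i) = b0 i)
    (hρsurj : Function.Surjective ρ)
    (c0 : (Fin N → R) →ₗ[R] (Fin N → R) →ₗ[R] (Fin N → R))
    (hc0 : ∀ x y, ρ (c0 x y) = ρ x * ρ y)
    (f : (Fin N → R) →ₗ[R] (Fin N → R) →ₗ[R] (Fin N → R) →ₗ[R] (Fin N → R))
    (hf : ∀ x y z t, ρ (hoch3 c0 f x y z t) = 0) :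
    ∃ g, ∀ x y z, ρ ((assocPair c0 g + assocPair g c0) x y z) = ρ (f x y z) := by
  classical
  obtain ⟨lam, hlam⟩ : ∃ lam : A₀ →ₗ[k] k, lam 1 = 1 := by
    obtain ⟨lam, hl⟩ := Module.Projective.exists_dual_ne_zero k (x := (1 : A₀)) one_ne_zero
    exact ⟨(lam 1)⁻¹ • lam, by rw [LinearMap.smul_apply, smul_eq_mul, inv_mul_cancel₀ hl]⟩
  obtain ⟨hinjM, hsurjM⟩ := bij_of_centralSimple k A₀
  obtain ⟨q, hq⟩ := hsurjM (lam.smulRight 1)
  let cq := TensorProduct.equivFinsuppOfBasisLeft b0 q
  have hqc : q = ∑ i, b0 i ⊗ₜ cq i := by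
    conv_lhs => rw [← (TensorProduct.equivFinsuppOfBasisLeft b0).symm_apply_apply q,
      TensorProduct.equivFinsuppOfBasisLeft_symm_apply, Finsupp.sum_fintype _ _ (by simp)]
  let vq : Fin N → A₀ := fun i => (cq i).unop
  have hq1 : ∑ i, b0 i * vq i = 1 := by
    have := LinearMap.congr_fun hq 1
    rw [hqc] at this
    simpa [vq, hlam] using this
  have hqrel : ∀ (a : A₀) (φ : A₀ →ₗ[k] A₀),
      ∑ i, (a * b0 i) * φ (vq i) = ∑ i, b0 i * φ (vq i * a) := by
    intro a φ
    have heq : (a ⊗ₜ[k] (1 : A₀ᵐᵒᵖ)) * q = ((1 : A₀) ⊗ₜ[k] op a) * q := by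
      refine hinjM (LinearMap.ext fun z => ?_)
      rw [map_mul, map_mul, hq]
      simp
    let L : A₀ ⊗[k] A₀ᵐᵒᵖ →ₗ[k] A₀ :=
      TensorProduct.lift ((LinearMap.mul k A₀).compl₂
        (φ.comp (MulOpposite.opLinearEquiv k).symm.toLinearMap))
    have := congrArg L heq
    rw [hqc, Finset.mul_sum, Finset.mul_sum] at this
    simpa [L, vq] using this
  choose ut hut using fun i => hρsurj (b0 i)
  choose vt hvt using fun i => hρsurj (vq i)
  let g : (Fin N → R) →ₗ[R] (Fin N → R) →ₗ[R] (Fin N → R) :=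
    -∑ i, (f (vt i)).compr₂ (c0 (ut i))
  have hg : ∀ x y, ρ (g x y) = -∑ i, b0 i * ρ (f (vt i) x y) := fun x y => by
    simp [g, hc0, hut]
  refine ⟨g, fun x y z => ?_⟩
  let φ : A₀ →ₗ[k] A₀ := b0.constr k fun i => ρ (f (Pi.basisFun R (Fin N) i) y z)
  have hφ : ∀ z', φ (ρ z') = ρ (f z' y z) := by
    have : (φ.restrictScalars R).comp ρ =
        { toFun := fun z' => ρ (f z' y z)
          map_add' := fun a b => by simp
          map_smul' := fun r a => by simp } :=
      (Pi.basisFun R (Fin N)).ext fun i => by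
        rw [LinearMap.comp_apply, LinearMap.restrictScalars_apply, hρe]
        exact b0.constr_basis k _ i
    exact fun z' => LinearMap.congr_fun this z'
  have hrel := hqrel (ρ x) φ
  have e1 : ∀ i, φ (vq i) = ρ (f (vt i) y z) := fun i => by rw [← hvt, hφ]
  have e2 : ∀ i, φ (vq i * ρ x) = ρ (f (c0 (vt i) x) y z) := fun i => by
    rw [← hvt, ← hc0, hφ]
  simp only [e1, e2] at hrel
  have hsum : ∑ i, b0 i * ρ (hoch3 c0 f (vt i) x y z) = 0 :=
    Finset.sum_eq_zero fun i _ => by rw [hf, mul_zero]
  simp only [hoch3_apply, map_add, map_sub, hc0, hvt, mul_add, mul_sub, Finset.sum_add_distrib,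
    Finset.sum_sub_distrib, ← mul_assoc, ← Finset.sum_mul, hq1, one_mul] at hsum
  simp only [Finset.sum_mul] at hsum
  simp only [LinearMap.add_apply, assocPair_apply, map_add, map_sub, hg, hc0, neg_mul,
    mul_neg, Finset.mul_sum, ← mul_assoc, Finset.sum_mul]
  linear_combination (norm := abel) -hsum + hrel

end Groth.Agent.Azumaya
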