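import Groth.Agent.Lib.Azumaya.Hochschild
import Groth.Agent.Lib.CSAlg.Split

/-!
# Lifting central simple algebras over henselian local rings

Associative multiplications near a given one are cut out, on a complement of the Hochschild
cocycles, by a square system with invertible jacobian, because the Hochschild cohomology of a
central simple algebra vanishes in degree `3`.
-/

set_option autoImplicit false
set_option maxSynthPendingDepth 6
set_option synthInstance.maxHeartbeats 400000
set_option synthInstance.maxSize 1024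

universe u v w

open TensorProduct MulOpposite IsLocalRing

namespace Groth.Agent.Azumaya

theorem mem_smul_top_of_apply_basis {R : Type u} [CommRing R] (I : Ideal R) {N : ℕ} {M : Type v}
    [AddCommMonoid M] [Module R M] (h : (Fin N → R) →ₗ[R] M)
    (hh : ∀ i, h (Pi.basisFun R (Fin N) i) ∈ I • (⊤ : Submodule R M)) :
    h ∈ I • (⊤ : Submodule R ((Fin N → R) →ₗ[R] M)) := by
  have hsum : h = ∑ i, LinearMap.smulRightₗ (LinearMap.proj i : (Fin N → R) →ₗ[R] R)
      (h (Pi.basisFun R (Fin N) i)) := by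
    refine (Pi.basisFun R (Fin N)).ext fun j => ?_
    simp [Pi.single_apply]
  rw [hsum]
  refine Submodule.sum_mem _ fun i _ => ?_
  have := Submodule.mem_map_of_mem
    (f := LinearMap.smulRightₗ (LinearMap.proj i : (Fin N → R) →ₗ[R] R) (M := M)) (hh i)
  rw [Submodule.map_smul''] at this
  exact Submodule.smul_mono le_rfl le_top this

theorem bilin_mem_smul_top {R : Type u} [CommRing R] (I : Ideal R) {N : ℕ} {M : Type v}
    [AddCommMonoid M] [Module R M] (h : (Fin N → R) →ₗ[R] (Fin N → R) →ₗ[R] M)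
    (hh : ∀ i j, h (Pi.basisFun R (Fin N) i) (Pi.basisFun R (Fin N) j) ∈ I • (⊤ : Submodule R M)) :
    h ∈ I • (⊤ : Submodule R ((Fin N → R) →ₗ[R] (Fin N → R) →ₗ[R] M)) :=
  mem_smul_top_of_apply_basis I h fun i => mem_smul_top_of_apply_basis I _ (hh i)

theorem trilin_mem_smul_top {R : Type u} [CommRing R] (I : Ideal R) {N : ℕ} {M : Type v}
    [AddCommMonoid M] [Module R M] (h : (Fin N → R) →ₗ[R] (Fin N → R) →ₗ[R] (Fin N → R) →ₗ[R] M)
    (hh : ∀ i j l, h (Pi.basisFun R (Fin N) i) (Pi.basisFun R (Fin N) j)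
      (Pi.basisFun R (Fin N) l) ∈ I • (⊤ : Submodule R M)) :
    h ∈ I • (⊤ : Submodule R ((Fin N → R) →ₗ[R] (Fin N → R) →ₗ[R] (Fin N → R) →ₗ[R] M)) :=
  mem_smul_top_of_apply_basis I h fun i => bilin_mem_smul_top I _ (hh i)

theorem quadrilin_mem_smul_top {R : Type u} [CommRing R] (I : Ideal R) {N : ℕ} {M : Type v}
    [AddCommMonoid M] [Module R M]
    (h : (Fin N → R) →ₗ[R] (Fin N → R) →ₗ[R] (Fin N → R) →ₗ[R] (Fin N → R) →ₗ[R] M)
    (hh : ∀ i j l m, h (Pi.basisFun R (Fin N) i) (Pi.basisFun R (Fin N) j)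
      (Pi.basisFun R (Fin N) l) (Pi.basisFun R (Fin N) m) ∈ I • (⊤ : Submodule R M)) :
    h ∈ I • (⊤ : Submodule R
      ((Fin N → R) →ₗ[R] (Fin N → R) →ₗ[R] (Fin N → R) →ₗ[R] (Fin N → R) →ₗ[R] M)) :=
  mem_smul_top_of_apply_basis I h fun i => trilin_mem_smul_top I _ (hh i)

variable {R : Type u} [CommRing R] [HenselianLocalRing R]

theorem smul_eq_residue_smul {M : Type v} [AddCommGroup M] [Module (ResidueField R) M] [Module R M]
    [IsScalarTower R (ResidueField R) M] (r : R) (a : M) : r • a = residue R r • a := by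
  rw [← algebraMap_smul (ResidueField R) r a]; rfl

/-- Elements of `m • M` die in any module over the residue field. -/
theorem map_eq_zero_of_mem_smul_top {M : Type v} [AddCommGroup M] [Module R M] {A : Type w}
    [AddCommGroup A] [Module (ResidueField R) A] [Module R A] [IsScalarTower R (ResidueField R) A]
    (φ : M →ₗ[R] A) {x : M} (hx : x ∈ maximalIdeal R • (⊤ : Submodule R M)) : φ x = 0 := by
  refine Submodule.smul_induction_on hx (fun r hr m _ => ?_) fun a b ha hb => by
    rw [map_add, ha, hb, add_zero]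
  rw [map_smul, smul_eq_residue_smul, (residue_eq_zero_iff r).2 hr, zero_smul]

/-- A linear map out of a free module is injective if a test on the special fibre detects
the elements of `m • C`. -/
theorem injective_of_test {C : Type v} [AddCommGroup C] [Module R C] [Module.Free R C]
    [Module.Finite R C] {D : Type w} [AddCommGroup D] [Module R D] [Module.Flat R D]
    (Θ : C →ₗ[R] D) {W : Type*} [AddCommGroup W] [Module (ResidueField R) W] [Module R W]
    [IsScalarTower R (ResidueField R) W] (Λ : D →ₗ[R] W)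
    (hker : ∀ f, Λ (Θ f) = 0 → f ∈ maximalIdeal R • (⊤ : Submodule R C)) :
    Function.Injective Θ := by
  classical
  let bC := Module.Free.chooseBasis R C
  have hli : LinearIndependent R fun q => Θ (bC q) := by
    refine Module.IsLocalRing.linearIndependent_of_flat _ ?_
    rw [Fintype.linearIndependent_iff]
    intro c hc q
    choose c' hc' using fun q => residue_surjective (R := R) (c q)
    let f := ∑ q, c' q • bC q
    have hf : Λ (Θ f) = 0 := by
      have h1 := congrArg (Λ.liftBaseChange (ResidueField R)) hc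
      simp only [map_sum, map_smul, map_zero, Function.comp_apply, TensorProduct.mk_apply,
        LinearMap.liftBaseChange_tmul, one_smul] at h1
      simp only [f, map_sum]
      refine (Finset.sum_congr rfl fun q _ => ?_).trans h1
      rw [map_smul, map_smul, smul_eq_residue_smul (c' q), hc']
    have h2 := map_eq_zero_of_mem_smul_top
      (TensorProduct.mk R (ResidueField R) C 1) (hker f hf)
    have h3 : ∑ q, c q • bC.baseChange (ResidueField R) q = 0 := by
      rw [← h2, TensorProduct.mk_apply, TensorProduct.tmul_sum]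
      refine Finset.sum_congr rfl fun q _ => ?_
      rw [Module.Basis.baseChange_apply, ← hc', TensorProduct.tmul_smul]
      exact algebraMap_smul (ResidueField R) (c' q) _
    exact Fintype.linearIndependent_iff.1 (bC.baseChange (ResidueField R)).linearIndependent c h3 q
  intro a b h
  apply bC.repr.injective
  refine hli ?_
  have hcomp : ∀ y, Finsupp.linearCombination R (fun q => Θ (bC q)) (bC.repr y) = Θ y := fun y => by
    conv_rhs => rw [← bC.linearCombination_repr y]
    exact (Finsupp.apply_linearCombination R Θ bC _).symm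
  rw [hcomp, hcomp, h]

/-- Quadrilinear maps congruent to zero die pointwise over the residue field. -/
theorem map_apply4_eq_zero {V : Type v} [AddCommGroup V] [Module R V] {A : Type w} [AddCommGroup A]
    [Module (ResidueField R) A] [Module R A] [IsScalarTower R (ResidueField R) A] (ρ : V →ₗ[R] A)
    (h : V →ₗ[R] V →ₗ[R] V →ₗ[R] V →ₗ[R] V)
    (hh : h ∈ maximalIdeal R • (⊤ : Submodule R (V →ₗ[R] V →ₗ[R] V →ₗ[R] V →ₗ[R] V)))
    (x y z t : V) : ρ (h x y z t) = 0 := by
  refine Submodule.smul_induction_on hh (fun r hr m _ => ?_) fun a b ha hb => by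
    simp only [LinearMap.add_apply, map_add, ha, hb, add_zero]
  rw [LinearMap.smul_apply, LinearMap.smul_apply, LinearMap.smul_apply, LinearMap.smul_apply,
    map_smul, smul_eq_residue_smul, (residue_eq_zero_iff r).2 hr, zero_smul]

/-- An associative multiplication lifting that of a central simple algebra. -/
theorem exists_assoc_lift {N : ℕ} (A₀ : Type u) [Ring A₀] [Algebra (ResidueField R) A₀]
    [Algebra.IsCentral (ResidueField R) A₀] [IsSimpleRing A₀] [FiniteDimensional (ResidueField R) A₀]
    [Algebra R A₀] [IsScalarTower R (ResidueField R) A₀]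
    (b0 : Module.Basis (Fin N) (ResidueField R) A₀) :
    ∃ (ρ : (Fin N → R) →ₗ[R] A₀) (μ : (Fin N → R) →ₗ[R] (Fin N → R) →ₗ[R] (Fin N → R)),
      Function.Surjective ρ ∧ (∀ x, ρ x = 0 → x ∈ maximalIdeal R • (⊤ : Submodule R (Fin N → R))) ∧
      (∀ x y, ρ (μ x y) = ρ x * ρ y) ∧ ∀ x y z, μ (μ x y) z = μ x (μ y z) := by
  classical
  let eV := Pi.basisFun R (Fin N)
  let ρ : (Fin N → R) →ₗ[R] A₀ := eV.constr R b0
  have hρe : ∀ i, ρ (eV i) = b0 i := fun i => eV.constr_basis R _ i
  have hρsurj : Function.Surjective ρ := fun a => by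
    choose c hc using fun i => residue_surjective (R := R) (b0.repr a i)
    refine ⟨∑ i, c i • eV i, ?_⟩
    simp only [map_sum, map_smul, hρe, smul_eq_residue_smul, hc, b0.sum_repr]
  have hρker : ∀ x, ρ x = 0 → x ∈ maximalIdeal R • (⊤ : Submodule R (Fin N → R)) := by
    intro x hx
    rw [← eV.sum_repr x]
    refine Submodule.sum_mem _ fun i _ => Submodule.smul_mem_smul ?_ Submodule.mem_top
    rw [← eV.sum_repr x] at hx
    simp only [map_sum, map_smul, hρe, smul_eq_residue_smul] at hx
    exact (residue_eq_zero_iff _).1 (Fintype.linearIndependent_iff.1 b0.linearIndependent _ hx i)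
  choose m0 hm0 using fun p : Fin N × Fin N => hρsurj (b0 p.1 * b0 p.2)
  let c0 : (Fin N → R) →ₗ[R] (Fin N → R) →ₗ[R] (Fin N → R) :=
    eV.constr R fun i => eV.constr R fun j => m0 (i, j)
  have hc0 : ∀ x y, ρ (c0 x y) = ρ x * ρ y := by
    have : c0.compr₂ ρ = (LinearMap.mul R A₀).compl₁₂ ρ ρ :=
      eV.ext fun i => eV.ext fun j => by
        simp only [LinearMap.compr₂_apply, LinearMap.compl₁₂_apply, LinearMap.mul_apply', hρe, c0,
          Module.Basis.constr_basis, hm0]
    exact fun x y => LinearMap.congr_fun₂ this x y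
  let red3 : ((Fin N → R) →ₗ[R] (Fin N → R) →ₗ[R] (Fin N → R) →ₗ[R] (Fin N → R)) →ₗ[R]
      (Fin N × Fin N × Fin N → A₀) :=
    { toFun := fun f p => ρ (f (eV p.1) (eV p.2.1) (eV p.2.2))
      map_add' := fun f g => by ext; simp
      map_smul' := fun r f => by ext; simp }
  have hred3 : ∀ f, red3 f = 0 → f ∈ maximalIdeal R •
      (⊤ : Submodule R ((Fin N → R) →ₗ[R] (Fin N → R) →ₗ[R] (Fin N → R) →ₗ[R] (Fin N → R))) :=
    fun f hf => trilin_mem_smul_top (maximalIdeal R) f fun i j l =>
      hρker _ (congrFun hf (i, j, l))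
  haveI f1 : Module.Free R ((Fin N → R) →ₗ[R] (Fin N → R)) := Module.Free.linearMap R R (Fin N → R)
    (Fin N → R)
  haveI g1 : Module.Finite R ((Fin N → R) →ₗ[R] (Fin N → R)) := Module.Finite.linearMap R R (Fin N → R)
    (Fin N → R)
  haveI f2 : Module.Free R ((Fin N → R) →ₗ[R] (Fin N → R) →ₗ[R] (Fin N → R)) := Module.Free.linearMap R R (Fin N → R)
    ((Fin N → R) →ₗ[R] (Fin N → R))
  haveI g2 : Module.Finite R ((Fin N → R) →ₗ[R] (Fin N → R) →ₗ[R] (Fin N → R)) := Module.Finite.linearMap R R (Fin N → R)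
    ((Fin N → R) →ₗ[R] (Fin N → R))
  haveI f3 : Module.Free R ((Fin N → R) →ₗ[R] (Fin N → R) →ₗ[R] (Fin N → R) →ₗ[R] (Fin N → R)) := Module.Free.linearMap R R (Fin N → R)
    ((Fin N → R) →ₗ[R] (Fin N → R) →ₗ[R] (Fin N → R))
  haveI g3 : Module.Finite R ((Fin N → R) →ₗ[R] (Fin N → R) →ₗ[R] (Fin N → R) →ₗ[R] (Fin N → R)) := Module.Finite.linearMap R R (Fin N → R)
    ((Fin N → R) →ₗ[R] (Fin N → R) →ₗ[R] (Fin N → R))
  haveI f4 : Module.Free R ((Fin N → R) →ₗ[R] (Fin N → R) →ₗ[R] (Fin N → R) →ₗ[R] (Fin N → R) →ₗ[R] (Fin N → R)) := Module.Free.linearMap R R (Fin N → R)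
    ((Fin N → R) →ₗ[R] (Fin N → R) →ₗ[R] (Fin N → R) →ₗ[R] (Fin N → R))
  let D2 := assocPair c0 + (assocPair (R := R) (V := Fin N → R)).flip c0
  have hD2 : ∀ w, D2 w = assocPair c0 w + assocPair w c0 := fun w => rfl
  -- complement of the cocycles
  let S : Submodule (ResidueField R) (Fin N × Fin N × Fin N → A₀) :=
    { carrier := {s | ∃ g, red3 (D2 g) = s}
      add_mem' := fun {s t} ⟨g, hg⟩ ⟨g', hg'⟩ => ⟨g + g', by rw [map_add, map_add, hg, hg']⟩
      zero_mem' := ⟨0, by rw [map_zero, map_zero]⟩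
      smul_mem' := fun c s ⟨g, hg⟩ => by
        obtain ⟨r, rfl⟩ := residue_surjective c
        exact ⟨r • g, by rw [map_smul, map_smul, hg, smul_eq_residue_smul]⟩ }
  let d := Module.finrank (ResidueField R) S
  let bS : Module.Basis (Fin d) (ResidueField R) S := Module.finBasis (ResidueField R) S
  choose w hw using fun a => (bS a).2
  obtain ⟨U, hU⟩ := S.exists_isCompl
  let Pbar : (Fin N × Fin N × Fin N → A₀) →ₗ[ResidueField R] (Fin d → ResidueField R) :=
    bS.equivFun.toLinearMap.comp (S.projectionOnto U hU)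
  have hPbar0 : ∀ s ∈ S, Pbar s = 0 → s = 0 := by
    intro s hs h0
    have h1 : S.projectionOnto U hU s = ⟨s, hs⟩ := Submodule.projectionOnto_apply_left hU ⟨s, hs⟩
    simp only [Pbar, LinearMap.comp_apply, h1, LinearEquiv.coe_coe, LinearEquiv.map_eq_zero_iff] at h0
    exact congrArg Subtype.val h0
  let resd : (Fin d → R) →ₗ[R] (Fin d → ResidueField R) :=
    LinearMap.pi fun a => (Algebra.linearMap R (ResidueField R)).comp (LinearMap.proj a)
  obtain ⟨P, hP⟩ := Module.projective_lifting_property resd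
    ((Pbar.restrictScalars R).comp red3) (fun c =>
    ⟨fun a => (residue_surjective (c a)).choose, funext fun a => (residue_surjective (c a)).choose_spec⟩)
  have hPf : ∀ f a, residue R (P f a) = Pbar (red3 f) a := fun f a =>
    congrFun (LinearMap.congr_fun hP f) a
  obtain ⟨z, hz0, hz⟩ := exists_zero_of_quadratic assocPair P c0 w
    (fun a => by
      rw [hPf, show red3 (assocPair c0 c0) = 0 from funext fun p => by
        simp [red3, assocPair_apply, hc0, mul_assoc], map_zero, Pi.zero_apply])
    (fun b a => by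
      rw [← hD2, hPf, hw, show Pbar (bS b : Fin N × Fin N × Fin N → A₀) = bS.equivFun (bS b) from
        congrArg bS.equivFun (Submodule.projectionOnto_apply_left hU (bS b))]
      simp [Pi.single_apply, eq_comm])
  set μ := c0 + ∑ b, z b • w b with hμdef
  have hμ : ∀ x y, ρ (μ x y) = ρ x * ρ y := fun x y => by
    simp only [hμdef, LinearMap.add_apply, LinearMap.sum_apply, LinearMap.smul_apply, map_add,
      map_sum, map_smul, hc0, smul_eq_residue_smul]
    rw [add_eq_left]
    refine Finset.sum_eq_zero fun b _ => ?_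
    rw [(residue_eq_zero_iff (z b)).2 (hz0 b), zero_smul]
  refine ⟨ρ, μ, hρsurj, hρker, hμ, ?_⟩
  -- the residual associator vanishes
  let Θ := (hoch3 μ).prod P
  let Λ : (((Fin N → R) →ₗ[R] (Fin N → R) →ₗ[R] (Fin N → R) →ₗ[R] (Fin N → R) →ₗ[R] (Fin N → R)) ×
      (Fin d → R)) →ₗ[R] (Fin N × Fin N × Fin N × Fin N → A₀) × (Fin d → ResidueField R) :=
    LinearMap.prodMap
      { toFun := fun f p => ρ (f (eV p.1) (eV p.2.1) (eV p.2.2.1) (eV p.2.2.2))
        map_add' := fun f g => by ext; simp
        map_smul' := fun r f => by ext; simp } resd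
  have hdesc : ∀ (φ : (Fin N → R) →ₗ[R] A₀) (a b : Fin N → R), ρ a = ρ b → φ a = φ b :=
    fun φ a b h => sub_eq_zero.1 (by
      rw [← map_sub]
      exact map_eq_zero_of_mem_smul_top φ (hρker _ (by rw [map_sub, h, sub_self])))
  have hker : ∀ f, Λ (Θ f) = 0 → f ∈ maximalIdeal R •
      (⊤ : Submodule R ((Fin N → R) →ₗ[R] (Fin N → R) →ₗ[R] (Fin N → R) →ₗ[R] (Fin N → R))) := by
    intro f hf
    have h4μ : ∀ x y z t, ρ (hoch3 μ f x y z t) = 0 := by
      have h := fun i j l m => congrFun (Prod.ext_iff.1 hf).1 (i, j, l, m)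
      have h0 := quadrilin_mem_smul_top (maximalIdeal R) (hoch3 μ f) fun i j l m =>
        hρker _ (h i j l m)
      exact map_apply4_eq_zero ρ _ h0
    have heq : ∀ a b, ρ (c0 a b) = ρ (μ a b) := fun a b => (hc0 a b).trans (hμ a b).symm
    have h4 : ∀ x y z t, ρ (hoch3 c0 f x y z t) = 0 := fun x y z t => by
      rw [← h4μ x y z t]
      have e1 : ρ (f (c0 x y) z t) = ρ (f (μ x y) z t) :=
        hdesc (ρ.comp ((LinearMap.applyₗ t).comp ((LinearMap.applyₗ z).comp f))) _ _ (heq x y)
      have e2 : ρ (f x (c0 y z) t) = ρ (f x (μ y z) t) :=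
        hdesc (ρ.comp ((LinearMap.applyₗ t).comp (f x))) _ _ (heq y z)
      have e3 : ρ (f x y (c0 z t)) = ρ (f x y (μ z t)) :=
        hdesc (ρ.comp (f x y)) _ _ (heq z t)
      simp only [hoch3_apply, map_add, map_sub, heq, e1, e2, e3]
    obtain ⟨g, hg⟩ := exists_coboundary_of_cocycle A₀ b0 ρ hρe hρsurj c0 hc0 f h4
    have hS : red3 f ∈ S := ⟨g, funext fun p => hg _ _ _⟩
    refine hred3 f (hPbar0 _ hS (funext fun a => ?_))
    rw [← hPf]
    exact congrFun (Prod.ext_iff.1 hf).2 a
  have hΘinj : Function.Injective Θ := injective_of_test Θ Λ hker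
  have he : assocPair μ μ = 0 := hΘinj (by
    rw [map_zero]
    exact Prod.ext (hoch3_assocPair μ) hz)
  intro x y t
  have := LinearMap.congr_fun (LinearMap.congr_fun₂ he x y) t
  rwa [assocPair_apply, LinearMap.zero_apply, LinearMap.zero_apply, LinearMap.zero_apply,
    sub_eq_zero] at this

/-- The underlying module of the lifted algebra. -/
def LiftMod (R : Type u) (N : ℕ) : Type u := Fin N → R

noncomputable instance (R : Type u) [CommRing R] (N : ℕ) : AddCommGroup (LiftMod R N) :=
  inferInstanceAs (AddCommGroup (Fin N → R))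

noncomputable instance (R : Type u) [CommRing R] (N : ℕ) : Module R (LiftMod R N) :=
  inferInstanceAs (Module R (Fin N → R))

instance (R : Type u) [CommRing R] (N : ℕ) : Module.Free R (LiftMod R N) :=
  inferInstanceAs (Module.Free R (Fin N → R))

instance (R : Type u) [CommRing R] (N : ℕ) : Module.Finite R (LiftMod R N) :=
  inferInstanceAs (Module.Finite R (Fin N → R))

/-- Central simple algebras lift to Azumaya algebras over henselian local rings. -/
theorem exists_azumaya_lift (A₀ : Type u) [Ring A₀] [Algebra (ResidueField R) A₀]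
    [Algebra.IsCentral (ResidueField R) A₀] [IsSimpleRing A₀]
    [FiniteDimensional (ResidueField R) A₀] :
    ∃ (A : Type u) (_ : Ring A) (_ : Algebra R A), IsAzumaya R A ∧
      Nonempty ((ResidueField R ⊗[R] A) ≃ₐ[ResidueField R] A₀) := by
  classical
  letI : Algebra R A₀ := Algebra.compHom A₀ (residue R)
  haveI : IsScalarTower R (ResidueField R) A₀ := IsScalarTower.of_algebraMap_eq fun r => rfl
  let N := Module.finrank (ResidueField R) A₀
  let b0 : Module.Basis (Fin N) (ResidueField R) A₀ := Module.finBasis (ResidueField R) A₀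
  obtain ⟨ρ, μ, hρs, hρker, hμ, hassoc⟩ := exists_assoc_lift (R := R) A₀ b0
  obtain ⟨u, hu⟩ := hρs 1
  have hbij : ∀ L : (Fin N → R) →ₗ[R] (Fin N → R), (∀ x, ρ (L x) = ρ x) → Function.Bijective L := by
    intro L hL
    have hs : Function.Surjective L := by
      suffices h : (⊤ : Submodule R (Fin N → R)) ≤ LinearMap.range L from fun a => h Submodule.mem_top
      refine Submodule.le_of_le_smul_of_le_jacobson_bot (Module.Finite.iff_fg.1 inferInstance)
        (maximalIdeal_le_jacobson ⊥) fun a _ => ?_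
      exact Submodule.mem_sup.2 ⟨L a, ⟨a, rfl⟩, a - L a, hρker _ (by rw [map_sub, hL, sub_self]),
        add_sub_cancel _ _⟩
    exact ⟨OrzechProperty.injective_of_surjective_endomorphism _ hs, hs⟩
  have hl := hbij (μ u) fun x => by rw [hμ, hu, one_mul]
  have hr := hbij (μ.flip u) fun x => by rw [LinearMap.flip_apply, hμ, hu, mul_one]
  obtain ⟨e, he⟩ := hl.2 u
  obtain ⟨e', he'⟩ := hr.2 u
  rw [LinearMap.flip_apply] at he'
  have hone_right : ∀ y, μ y e = y := fun y => by
    obtain ⟨z, rfl⟩ := hr.2 y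
    rw [LinearMap.flip_apply, hassoc, he]
  have hone_left : ∀ y, μ e' y = y := fun y => by
    obtain ⟨z, rfl⟩ := hl.2 y
    rw [← hassoc, he']
  have hee : e' = e := (hone_right e').symm.trans (hone_left e)
  subst hee
  letI : Mul (LiftMod R N) := ⟨fun x y => μ x y⟩
  letI : One (LiftMod R N) := ⟨e'⟩
  letI instR : Ring (LiftMod R N) :=
    { (inferInstance : AddCommGroup (LiftMod R N)) with
      left_distrib := fun x y z => map_add (μ x) y z
      right_distrib := fun x y z => LinearMap.map_add₂ μ x y z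
      zero_mul := fun x => LinearMap.map_zero₂ μ x
      mul_zero := fun x => map_zero (μ x)
      mul_assoc := hassoc
      one_mul := hone_left
      mul_one := hone_right }
  letI : Algebra R (LiftMod R N) := Algebra.ofModule (fun r x y => LinearMap.map_smul₂ μ r x y)
    (fun r x y => map_smul (μ x) r y)
  have hρ1 : ρ e' = 1 := by
    have h1 := congrArg ρ (hone_left u)
    rwa [hμ, hu, mul_one] at h1
  let ρ' : LiftMod R N →ₐ[R] A₀ := AlgHom.ofLinearMap ρ hρ1 fun x y => hμ x y
  let ψ : ResidueField R ⊗[R] LiftMod R N →ₐ[ResidueField R] A₀ :=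
    Algebra.TensorProduct.lift (Algebra.ofId _ A₀) ρ' fun c x => Algebra.commutes c (ρ' x)
  have hψs : Function.Surjective ψ := fun a => by
    obtain ⟨x, rfl⟩ := hρs a
    exact ⟨(1 : ResidueField R) ⊗ₜ x, by simp [ψ, ρ']; rfl⟩
  have hrank : Module.finrank (ResidueField R) (ResidueField R ⊗[R] LiftMod R N) =
      Module.finrank (ResidueField R) A₀ := by
    rw [Module.finrank_baseChange]
    exact (Module.finrank_fin_fun R)
  have hψ : Function.Bijective ψ :=
    ⟨(LinearMap.injective_iff_surjective_of_finrank_eq_finrank (f := ψ.toLinearMap) hrank).2 hψs, hψs⟩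
  let eψ := AlgEquiv.ofBijective ψ hψ
  haveI : Nontrivial (LiftMod R N) := ⟨⟨e', 0, fun h => one_ne_zero (α := A₀) (by
    rw [← hρ1, h]; exact map_zero ρ)⟩⟩
  refine ⟨LiftMod R N, instR, inferInstance, (isAzumaya_iff_residue R (LiftMod R N)).2
    ⟨CSAlg.isCentral_of_algEquiv (k := ResidueField R) (A := A₀) (B := ResidueField R ⊗[R] LiftMod R N) eψ.symm,
      IsSimpleRing.of_ringEquiv eψ.symm.toRingEquiv inferInstance⟩, ⟨eψ⟩⟩

end Groth.Agent.Azumaya
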