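import Groth.Agent.Lib.Azumaya.EtaleSub
import Mathlib.RingTheory.Etale.Field
import Mathlib.LinearAlgebra.Vandermonde

/-!
# Maximal étale subalgebras are their own centralizers
-/

set_option autoImplicit false

universe u v w

open Polynomial TensorProduct MulOpposite

namespace Groth.Agent.Azumaya

theorem infinite_separableClosure (k : Type u) [Field k] : Infinite (SeparableClosure k) := by
  by_contra h
  rw [not_infinite_iff_finite] at h
  haveI : IsAlgClosed (SeparableClosure k) := IsSepClosed.isAlgClosed_of_perfectField _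
  exact not_finite (SeparableClosure k)

theorem mem_range_of_commute (k : Type u) [Field k] {B : Type v} [Ring B] [Algebra k B]
    [Algebra.IsCentral k B] [IsSimpleRing B] [FiniteDimensional k B] (r : ℕ)
    (hB : Module.finrank k B = r ^ 2) {L : Type w} [CommRing L] [Algebra k L] [Algebra.Etale k L]
    [Module.Finite k L] (hL : Module.finrank k L = r) (φ : L →ₐ[k] B) (hφ : Function.Injective φ)
    (y : B) (hy : ∀ l, y * φ l = φ l * y) : y ∈ φ.range := by
  classical
  let K := SeparableClosure k
  haveI : Infinite K := infinite_separableClosure k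
  obtain ⟨n, hn, ⟨e⟩⟩ := CSAlg.splits_separableClosure (k := k) B
  have hn' : n = r := by
    have := e.toLinearEquiv.finrank_eq
    rw [Module.finrank_baseChange, hB, Module.finrank_matrix, Fintype.card_fin] at this
    simp at this
    nlinarith
  subst hn'
  let eB : K ⊗[k] B ≃ₐ[K] Module.End K (Fin n → K) := e.trans Matrix.toLinAlgEquiv'
  haveI : Module.Finite K (K ⊗[k] L) := Module.Finite.base_change k K L
  let eL := Algebra.FormallyEtale.equivPiOfIsSepClosed K (K ⊗[k] L)
  haveI : IsArtinianRing (K ⊗[k] L) := isArtinian_of_tower K inferInstance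
  haveI : Finite (PrimeSpectrum (K ⊗[k] L)) :=
    Finite.of_equiv (MaximalSpectrum (K ⊗[k] L))
      (IsArtinianRing.primeSpectrumEquivMaximalSpectrum (R := K ⊗[k] L)).symm
  haveI : Fintype (PrimeSpectrum (K ⊗[k] L)) := Fintype.ofFinite _
  have hcard : Fintype.card (PrimeSpectrum (K ⊗[k] L)) = n := by
    rw [← Module.finrank_fintype_fun_eq_card K, ← eL.toLinearEquiv.finrank_eq,
      Module.finrank_baseChange, hL]
  let σ := Fintype.equivFinOfCardEq hcard
  let eL' : K ⊗[k] L ≃ₐ[K] (Fin n → K) :=
    eL.trans (AlgEquiv.piCongrLeft' K (fun _ => K) σ)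
  let φK : K ⊗[k] L →ₐ[K] K ⊗[k] B := Algebra.TensorProduct.map (AlgHom.id K K) φ
  have hφK : Function.Injective φK :=
    Module.Flat.lTensor_preserves_injective_linearMap (M := K) φ.toLinearMap hφ
  let γ : (Fin n → K) →ₐ[K] Module.End K (Fin n → K) :=
    (eB.toAlgHom.comp φK).comp eL'.symm.toAlgHom
  have hγ : Function.Injective γ := eB.injective.comp (hφK.comp eL'.symm.injective)
  let μ : Fin n → K := fun i => Infinite.natEmbedding K i
  have hμ : Function.Injective μ := (Infinite.natEmbedding K).injective.comp Fin.val_injective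
  let f := γ μ
  have hli : LinearIndependent K fun i : Fin n => f ^ (i : ℕ) := by
    have h0 : LinearIndependent K fun i : Fin n => μ ^ (i : ℕ) := by
      rw [Fintype.linearIndependent_iff]
      intro c hc
      refine congrFun (Matrix.eq_zero_of_forall_index_sum_mul_pow_eq_zero hμ fun j => ?_)
      simpa using congrFun hc j
    simpa [f, Function.comp_def, map_pow] using h0.map' γ.toLinearMap (LinearMap.ker_eq_bot.2 hγ)
  have heig : ∀ i, f.HasEigenvalue (μ i) := by
    intro i
    have hne : γ (Pi.single i 1) ≠ 0 := fun h =>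
      one_ne_zero (α := K) (by simpa using congrFun (hγ (h.trans (map_zero γ).symm)) i)
    obtain ⟨v, hv⟩ : ∃ v, γ (Pi.single i 1) v ≠ 0 := by
      by_contra! h
      exact hne (LinearMap.ext h)
    refine Module.End.hasEigenvalue_of_hasEigenvector
      (x := γ (Pi.single i 1) v) ⟨Module.End.mem_eigenspace_iff.2 ?_, hv⟩
    have : μ * Pi.single i 1 = μ i • Pi.single i (1 : K) := by
      ext j
      by_cases h : j = i
      · subst h; simp
      · simp [Pi.single_eq_of_ne h]
    change (f * γ (Pi.single i 1)) v = _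
    rw [← map_mul, this, map_smul]
    rfl
  let ι : B →ₐ[k] Module.End K (Fin n → K) :=
    (eB.restrictScalars k).toAlgHom.comp Algebra.TensorProduct.includeRight
  have hcommK : ∀ z : K ⊗[k] L, ι y * eB (φK z) = eB (φK z) * ι y := by
    intro z
    induction z using TensorProduct.induction_on with
    | zero => simp
    | add a b ha hb => simp only [map_add, mul_add, add_mul, ha, hb]
    | tmul c l =>
      change eB ((1 : K) ⊗ₜ y) * eB (c ⊗ₜ φ l) = eB (c ⊗ₜ φ l) * eB ((1 : K) ⊗ₜ y)
      rw [← map_mul, ← map_mul, Algebra.TensorProduct.tmul_mul_tmul,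
        Algebra.TensorProduct.tmul_mul_tmul, one_mul, mul_one, hy]
  have hmem := commute_mem_span (Module.finrank_fin_fun K) f hli μ hμ heig (ι y)
    (hcommK (eL'.symm μ))
  have hrange : ι y ∈ LinearMap.range γ.toLinearMap := by
    refine (Submodule.span_le.2 ?_) hmem
    rintro _ ⟨j, rfl⟩
    exact ⟨μ ^ (j : ℕ), map_pow γ μ j⟩
  obtain ⟨w, hw⟩ := hrange
  have hy1 : (1 : K) ⊗ₜ[k] y = φK (eL'.symm w) := eB.injective hw.symm
  let S := LinearMap.range φ.toLinearMap
  have h0 : (1 : K) ⊗ₜ[k] S.mkQ y = 0 := by
    have hz : ∀ z : K ⊗[k] L, S.mkQ.baseChange K (φK z) = 0 := fun z => by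
      induction z using TensorProduct.induction_on with
      | zero => simp
      | add a b ha hb => simp only [map_add, ha, hb, add_zero]
      | tmul c l =>
        change c ⊗ₜ[k] S.mkQ (φ l) = 0
        rw [show S.mkQ (φ l) = 0 from (Submodule.Quotient.mk_eq_zero _).2 ⟨l, rfl⟩,
          TensorProduct.tmul_zero]
    rw [← LinearMap.baseChange_tmul, hy1, hz]
  have hinj : Function.Injective fun q : B ⧸ S => (1 : K) ⊗ₜ[k] q := by
    intro q q' hq
    have := Module.Flat.rTensor_preserves_injective_linearMap (M := B ⧸ S) (Algebra.linearMap k K)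
      (algebraMap k K).injective (a₁ := (1 : k) ⊗ₜ q) (a₂ := (1 : k) ⊗ₜ q') (by simpa using hq)
    simpa using congrArg (TensorProduct.lid k (B ⧸ S)) this
  exact (Submodule.Quotient.mk_eq_zero S).1 (hinj (h0.trans (TensorProduct.tmul_zero _ _).symm))

section Local

variable {R : Type u} [CommRing R] [IsLocalRing R] {A : Type v} [Ring A] [Algebra R A]
  [IsAzumaya R A] {E : Type w} [CommRing E] [Algebra R E] [Algebra.Etale R E] [Module.Finite R E]
  [Module.Free R E]

theorem injective_of_residue (u : E →ₐ[R] A)
    (hu : Function.Injective (u.toLinearMap.lTensor (IsLocalRing.ResidueField R))) :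
    Function.Injective u := by
  have : Module.Free R A := Module.free_of_flat_of_isLocalRing
  let b := Module.Free.chooseBasis R E
  have hu' : Function.Injective (u.toLinearMap.baseChange (IsLocalRing.ResidueField R)) := hu
  have h0 := (b.baseChange (IsLocalRing.ResidueField R)).linearIndependent.map' _
    (LinearMap.ker_eq_bot.2 hu')
  have hli : LinearIndependent R fun i => u (b i) :=
    Module.IsLocalRing.linearIndependent_of_flat _ (by simpa [Function.comp_def] using h0)
  intro x y hxy
  apply b.repr.injective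
  refine hli ?_
  have hcomp : ∀ z, Finsupp.linearCombination R (fun i => u (b i)) (b.repr z) = u z := fun z => by
    conv_rhs => rw [← b.linearCombination_repr z]
    exact (Finsupp.apply_linearCombination R u.toLinearMap b _).symm
  rw [hcomp, hcomp, hxy]

/-- A maximal étale subalgebra of an Azumaya algebra over a local ring is its own centralizer. -/
theorem mem_range_of_commute_local (r : ℕ) (hA : Module.finrank R A = r ^ 2)
    (hE : Module.finrank R E = r) (u : E →ₐ[R] A)
    (hu : Function.Injective (u.toLinearMap.lTensor (IsLocalRing.ResidueField R)))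
    (z : A) (hz : ∀ e, z * u e = u e * z) : z ∈ u.range := by
  classical
  let k := IsLocalRing.ResidueField R
  have : Module.Free R A := Module.free_of_flat_of_isLocalRing
  cases subsingleton_or_nontrivial A
  · exact ⟨0, Subsingleton.elim _ _⟩
  obtain ⟨hcen, hsimp⟩ := (isAzumaya_iff_residue R A).1 ‹_›
  haveI : Module.Finite k (k ⊗[R] E) := Module.Finite.base_change R k E
  let φ : k ⊗[R] E →ₐ[k] k ⊗[R] A := Algebra.TensorProduct.map (AlgHom.id k k) u
  have hφ : Function.Injective φ := hu
  let b := Module.Free.chooseBasis R E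
  let bk := b.baseChange k
  have hv : LinearIndependent k fun i => φ (bk i) :=
    bk.linearIndependent.map' φ.toLinearMap (LinearMap.ker_eq_bot.2 hφ)
  have hφb : ∀ i, φ (bk i) = (1 : k) ⊗ₜ[R] u (b i) := fun i => by
    simp [φ, bk]
  let V := Submodule.span k (Set.range fun i => φ (bk i))
  have hVrange : ∀ a, a ∈ φ.range → a ∈ V := by
    rintro _ ⟨l, rfl⟩
    change φ l ∈ V
    rw [← bk.sum_repr l]
    simp only [map_sum, map_smul]
    exact Submodule.sum_mem _ fun i _ => Submodule.smul_mem _ _ (Submodule.subset_span ⟨i, rfl⟩)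
  obtain ⟨U, hU⟩ := V.exists_isCompl
  let bU := Module.finBasis k U
  let bbar : Module.Basis (Module.Free.ChooseBasisIndex R E ⊕ Fin (Module.finrank k U)) k (k ⊗[R] A) :=
    ((Module.Basis.span hv).prod bU).map (V.prodEquivOfIsCompl U hU)
  choose w hw using fun l => TensorProduct.mk_surjective R A k IsLocalRing.residue_surjective (bU l : k ⊗[R] A)
  let v : Module.Free.ChooseBasisIndex R E ⊕ Fin (Module.finrank k U) → A :=
    Sum.elim (fun i => u (b i)) w
  have hvb : ∀ i, (1 : k) ⊗ₜ[R] v i = bbar i := by
    rintro (i | l)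
    · simp [v, bbar, hφb, Module.Basis.span_apply]
    · exact (hw l).trans (by simp [bbar])
  have hspan : Submodule.span R (Set.range v) = ⊤ :=
    IsLocalRing.span_eq_top_of_tmul_eq_basis _ bbar hvb
  let ad : A →ₗ[R] Module.Free.ChooseBasisIndex R E → A :=
    LinearMap.pi fun i => LinearMap.mulRight R (u (b i)) - LinearMap.mulLeft R (u (b i))
  have hadli : LinearIndependent R fun l => ad (w l) := by
    refine Module.IsLocalRing.linearIndependent_of_flat _ ?_
    rw [Fintype.linearIndependent_iff]
    intro c hc l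
    let a : k ⊗[R] A := ∑ l, c l • (bU l : k ⊗[R] A)
    have hax : ∀ i, a * φ (bk i) = φ (bk i) * a := fun i => by
      have hci := congrArg (fun t => TensorProduct.piRight R k k (fun _ => A) t i) hc
      simp only [map_sum, map_smul, map_zero, Finset.sum_apply, Pi.smul_apply, Pi.zero_apply] at hci
      rw [← sub_eq_zero, ← hci]
      simp only [a, Finset.sum_mul, Finset.mul_sum, ← Finset.sum_sub_distrib]
      refine Finset.sum_congr rfl fun l _ => ?_
      rw [smul_mul_assoc, mul_smul_comm, ← smul_sub,
        show (bU l : k ⊗[R] A) = (1 : k) ⊗ₜ[R] w l from (hw l).symm, hφb]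
      simp [ad, TensorProduct.tmul_sub, Algebra.TensorProduct.tmul_mul_tmul]
    have hall : ∀ t, a * φ t = φ t * a := fun t => by
      rw [← bk.sum_repr t]
      simp only [map_sum, map_smul, Finset.mul_sum, Finset.sum_mul, mul_smul_comm, smul_mul_assoc, hax]
    have haV : a ∈ V := hVrange a (mem_range_of_commute k r
      (by rw [Module.finrank_baseChange, hA]) (by rw [Module.finrank_baseChange, hE]) φ hφ a hall)
    have haU : a ∈ U := Submodule.sum_mem _ fun l _ => U.smul_mem _ (bU l).2
    have ha0 : a = 0 := Submodule.disjoint_def.1 hU.disjoint a haV haU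
    have : ∑ l, c l • bU l = 0 := Subtype.ext (by simpa [a] using ha0)
    exact Fintype.linearIndependent_iff.1 bU.linearIndependent c this l
  obtain ⟨c, rfl⟩ := (Submodule.mem_span_range_iff_exists_fun R).1
    (hspan ▸ Submodule.mem_top : z ∈ Submodule.span R (Set.range v))
  rw [Fintype.sum_sum_type] at hz ⊢
  simp only [v, Sum.elim_inl, Sum.elim_inr] at hz ⊢
  set z₁ := ∑ i, c (Sum.inl i) • u (b i) with hz₁
  have hmem : z₁ ∈ u.range := Subalgebra.sum_mem _ fun i _ =>
    Subalgebra.smul_mem _ ((AlgHom.mem_range u).2 ⟨b i, rfl⟩) _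
  obtain ⟨e₁, he₁⟩ := hmem
  have hsum : ∑ l, c (Sum.inr l) • ad (w l) = 0 := by
    ext i
    have h1 := hz (b i)
    rw [← sub_eq_zero] at h1
    rw [Finset.sum_apply, Pi.zero_apply, ← h1, ← he₁]
    change _ = (u e₁ + _) * u (b i) - u (b i) * (u e₁ + _)
    rw [add_mul, mul_add, ← map_mul, ← map_mul, mul_comm e₁, add_sub_add_left_eq_sub]
    simp [ad, Finset.sum_mul, Finset.mul_sum, smul_sub]
  have hzero := Fintype.linearIndependent_iff.1 hadli _ hsum
  simp only [hzero, zero_smul, Finset.sum_const_zero, add_zero]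
  exact ⟨e₁, he₁⟩

end Local

end Groth.Agent.Azumaya
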