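import Groth.Agent.Lib.Azumaya.MaxEtale
import Mathlib.RingTheory.QuasiFinite.Basic
import Mathlib.RingTheory.Spectrum.Prime.FreeLocus
import Mathlib.RingTheory.Unramified.Finite
import Mathlib.Algebra.Module.FinitePresentation

/-!
# An Azumaya algebra is split by a maximal étale subalgebra
-/

set_option autoImplicit false

universe u v w

open TensorProduct MulOpposite

namespace Groth.Agent.Azumaya

theorem rankAtStalk_end {E : Type u} [CommRing E] (A : Type v) [AddCommGroup A] [Module E A]
    [Module.Finite E A] [Module.Projective E A] (p : PrimeSpectrum E) :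
    Module.rankAtStalk (R := E) (Module.End E A) p = Module.rankAtStalk (R := E) A p ^ 2 := by
  haveI := Module.finitePresentation_of_projective E A
  let S := p.asIdeal.primeCompl
  let e : LocalizedModule S (Module.End E A) ≃ₗ[Localization.AtPrime p.asIdeal]
      (LocalizedModule S A →ₗ[Localization.AtPrime p.asIdeal] LocalizedModule S A) :=
    (IsLocalizedModule.linearEquiv S (LocalizedModule.mkLinearMap S (Module.End E A))
      (LocalizedModule.map S (M := A) (N := A))).extendScalarsOfIsLocalization S _
  haveI : Module.Free (Localization.AtPrime p.asIdeal) (LocalizedModule S A) :=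
    Module.free_of_flat_of_isLocalRing
  simp only [Module.rankAtStalk]
  rw [e.finrank_eq, Module.finrank_linearMap, sq]

section Split

variable {R : Type u} [CommRing R] [IsLocalRing R] {A : Type v} [Ring A] [Algebra R A]
  [IsAzumaya R A] {E : Type w} [CommRing E] [Algebra R E] [Algebra.Etale R E] [Module.Finite R E]
  [Module.Free R E]

theorem nonempty_split_and_free (r : ℕ) (hA : Module.finrank R A = r ^ 2)
    (hE : Module.finrank R E = r) (u : E →ₐ[R] A)
    (hu : Function.Injective (u.toLinearMap.lTensor (IsLocalRing.ResidueField R)))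
    [Module E A] (hmod : ∀ (e : E) (a : A), e • a = a * u e) :
    Module.Free E A ∧ Module.finrank E A = r ∧ Nonempty ((E ⊗[R] A) ≃ₐ[E] Module.End E A) := by
  classical
  have : Module.Free R A := Module.free_of_flat_of_isLocalRing
  haveI : IsScalarTower R E A := ⟨fun c e a => by
    rw [hmod, hmod, map_smul, mul_smul_comm]⟩
  haveI : SMulCommClass E A A := ⟨fun e a b => by
    rw [smul_eq_mul, smul_eq_mul, hmod, hmod, mul_assoc]⟩
  let L : A →ₐ[R] Module.End E A :=
    AlgHom.ofLinearMap
      { toFun := fun a =>
          { toFun := fun x => a * x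
            map_add' := mul_add a
            map_smul' := fun e x => by simp only [RingHom.id_apply, hmod, mul_assoc] }
        map_add' := fun a b => by ext x; simp [add_mul]
        map_smul' := fun c a => by ext x; simp }
      (by ext x; simp) (fun a b => by ext x; simp [mul_assoc])
  have hcomm : ∀ (e : E) (a : A), Commute (Algebra.ofId E (Module.End E A) e) (L a) := fun e a =>
    Algebra.commutes e (L a)
  let Θ : E ⊗[R] A →ₐ[E] Module.End E A := Algebra.TensorProduct.lift (Algebra.ofId E _) L hcomm
  have hΘ : ∀ (e : E) (a x : A), Θ (e ⊗ₜ a) x = a * x * u e := fun e a x => by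
    simp [Θ, L, hmod, Algebra.ofId_apply]
  obtain ⟨hinjM, hsurjM⟩ := IsAzumaya.bij (R := R) (A := A)
  have hinj : Function.Injective Θ := by
    let oA : A ≃ₗ[R] Aᵐᵒᵖ := MulOpposite.opLinearEquiv R
    let w : E →ₗ[R] Aᵐᵒᵖ := oA.toLinearMap.comp u.toLinearMap
    have hw : Function.Injective w := fun a b h =>
      injective_of_residue u hu (oA.injective h)
    have hwA : Function.Injective (w.lTensor A) :=
      Module.Flat.lTensor_preserves_injective_linearMap (M := A) w hw
    let cA : E ⊗[R] A ≃ₗ[R] A ⊗[R] E := TensorProduct.comm R E A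
    let ψ : E ⊗[R] A →ₗ[R] A ⊗[R] Aᵐᵒᵖ := (w.lTensor A).comp cA.toLinearMap
    have hψ : Function.Injective ψ := fun a b h => cA.injective (hwA h)
    have hrel : ∀ z x, Θ z x = AlgHom.mulLeftRight R A (ψ z) x := fun z x => by
      induction z using TensorProduct.induction_on with
      | zero => simp
      | add a b ha hb => simp [map_add, ha, hb]
      | tmul e a => rw [hΘ]; simp [ψ, cA, w, oA]
    intro z z' h
    exact hψ (hinjM (LinearMap.ext fun x => by rw [← hrel, ← hrel, h]))
  have hsurj : Function.Surjective Θ := by
    intro φ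
    obtain ⟨z, hz⟩ := hsurjM (φ.restrictScalars R)
    let bA := Module.Free.chooseBasis R A
    let c := TensorProduct.equivFinsuppOfBasisLeft bA z
    have hzc : z = ∑ i, bA i ⊗ₜ c i := by
      conv_lhs => rw [← (TensorProduct.equivFinsuppOfBasisLeft bA).symm_apply_apply z,
        TensorProduct.equivFinsuppOfBasisLeft_symm_apply, Finsupp.sum_fintype _ _ (by simp)]
    have hφ : ∀ x, φ x = ∑ i, bA i * x * (c i).unop := fun x => by
      rw [← LinearMap.restrictScalars_apply R φ x, ← hz, hzc]
      simp
    have hc : ∀ i, (c i).unop ∈ u.range := by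
      intro i
      refine mem_range_of_commute_local r hA hE u hu _ fun e => ?_
      let d : A ⊗[R] Aᵐᵒᵖ := ∑ i, bA i ⊗ₜ op (u e * (c i).unop - (c i).unop * u e)
      have hd : d = 0 := by
        refine hinjM (LinearMap.ext fun x => ?_)
        have h1 := φ.map_smul e x
        rw [hmod, hmod, hφ, hφ, Finset.sum_mul, ← sub_eq_zero, ← Finset.sum_sub_distrib] at h1
        rw [map_zero, LinearMap.zero_apply, ← h1]
        simp only [d, map_sum, LinearMap.sum_apply, AlgHom.mulLeftRight_apply, unop_op]
        refine Finset.sum_congr rfl fun i _ => ?_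
        rw [mul_sub]; simp only [mul_assoc]
      have := congrArg (fun t => TensorProduct.equivFinsuppOfBasisLeft bA t i) hd
      simp only [d, map_sum, map_zero, Finsupp.coe_finsetSum, Finset.sum_apply,
        TensorProduct.equivFinsuppOfBasisLeft_apply_tmul, Finsupp.mapRange_apply,
        Module.Basis.repr_self, Finsupp.single_apply, Finsupp.zero_apply, ite_smul, one_smul,
        zero_smul, Finset.sum_ite_eq', Finset.mem_univ, if_true, op_eq_zero_iff, sub_eq_zero] at this
      exact this.symm
    choose e he using fun i => (AlgHom.mem_range u).1 (hc i)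
    refine ⟨∑ i, e i ⊗ₜ bA i, LinearMap.ext fun x => ?_⟩
    simp only [map_sum, LinearMap.sum_apply, hΘ, hφ, he]
  let eΘ := AlgEquiv.ofBijective Θ ⟨hinj, hsurj⟩
  refine (fun h => ⟨h.1, h.2, ⟨eΘ⟩⟩ :
    Module.Free E A ∧ Module.finrank E A = r → _) ?_
  haveI : Module.Finite E A := Module.Finite.of_restrictScalars_finite R E A
  haveI : Module.Projective E A := Algebra.FormallyUnramified.projective_of_restrictScalars R E A
  haveI : Module.Free E (E ⊗[R] A) := inferInstance
  haveI : Nontrivial A := by
    by_contra hn
    haveI := not_nontrivial_iff_subsingleton.1 hn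
    exact one_ne_zero (α := R) (FaithfulSMul.eq_of_smul_eq_smul fun a : A => Subsingleton.elim _ _)
  haveI : Nontrivial E := by
    by_contra hn
    haveI := not_nontrivial_iff_subsingleton.1 hn
    have hr : r = 0 := by rw [← hE]; exact Module.finrank_zero_of_subsingleton
    rw [hr] at hA
    haveI := (Module.Free.chooseBasis R A).index_nonempty
    rw [Module.finrank_eq_card_chooseBasisIndex] at hA
    exact absurd hA (by simp)
  have hrank : ∀ p : PrimeSpectrum E, Module.rankAtStalk (R := E) A p = r := fun p => by
    refine Nat.pow_left_injective two_ne_zero (?_ : _ ^ 2 = r ^ 2)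
    rw [← rankAtStalk_end, ← Module.rankAtStalk_eq_of_equiv eΘ.toLinearEquiv,
      Module.rankAtStalk_eq_finrank_of_free, Module.finrank_baseChange, hA]
    simp
  haveI : Finite (MaximalSpectrum E) := by
    have : Algebra.IsIntegral R E := Algebra.IsIntegral.of_finite R E
    have hfin : ((IsLocalRing.maximalIdeal R).primesOver E).Finite :=
      Algebra.QuasiFinite.finite_primesOver _
    haveI := hfin.to_subtype
    refine Finite.of_injective
      (β := (IsLocalRing.maximalIdeal R).primesOver E)
      (fun P => ⟨P.asIdeal, P.isMaximal.isPrime, ⟨?_⟩⟩) fun P Q h => MaximalSpectrum.ext (Subtype.ext_iff.1 h)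
    haveI := P.isMaximal
    exact (IsLocalRing.eq_maximalIdeal
      (Ideal.isMaximal_comap_of_isIntegral_of_isMaximal (R := R) P.asIdeal)).symm
  have hfree : Module.Free E A := Module.free_of_flat_of_finrank_eq E A r fun P => by
    haveI := P.isMaximal
    letI := Ideal.Quotient.field P.asIdeal
    have h1 := Module.rankAtStalk_baseChange (R := E) (M := A) (S := E ⧸ P.asIdeal) ⟨⊥, Ideal.isPrime_bot⟩
    rw [Module.rankAtStalk_eq_finrank_of_free, hrank] at h1
    simpa using h1
  refine ⟨hfree, ?_⟩
  have h := hrank ⟨_, (Ideal.exists_maximal E).choose_spec.isPrime⟩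
  rw [Module.rankAtStalk_eq_finrank_of_free] at h
  simpa using h

end Split

end Groth.Agent.Azumaya
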